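import Groth.Agent.VertIntLib.Exists
import Groth.Agent.VertIntLib.Comp
import Groth.Agent.FinPicLib.Topo
import Groth.Agent.VertIntLib.Prod
import Groth.Agent.CurvLib.Finite0
import Mathlib.AlgebraicGeometry.Morphisms.Proper

/-!
# Vertical components of a two-dimensional proper flat scheme
-/

set_option autoImplicit false
set_option backward.isDefEq.respectTransparency false
set_option linter.style.haveILetI false
universe u
open AlgebraicGeometry CategoryTheory CategoryTheory.Limits TopologicalSpace IsLocalRing

noncomputable section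

namespace VertChiLib

variable {R : Type u} [CommRing R] [IsDomain R] [IsDiscreteValuationRing R]
  {X : Over (Spec (CommRingCat.of R))} [IsIntegral X.left] [Flat X.hom]

/-- A component of the closed fibre is a vertical prime divisor. -/
theorem exists_vertComp_of_dim {z : X.left} (hz : X.hom z = closedPoint R)
    (hd : topologicalKrullDim (closure ({z} : Set X.left)) = 1) :
    ∃ Γ : ArSurf.VertComp R X, Set.range Γ.ι.base = closure ({z} : Set X.left) := by
  set Z : Closeds X.left := ⟨closure {z}, isClosed_closure⟩
  set I := Scheme.IdealSheafData.vanishingIdeal Z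
  have hrange : Set.range I.subschemeι.base = closure ({z} : Set X.left) :=
    I.range_subschemeι.trans (by rw [Scheme.IdealSheafData.coe_support_vanishingIdeal]; rfl)
  haveI : IsReduced I.subscheme := DevissLib.isReduced_vanishingIdeal' Z
  haveI : IrreducibleSpace I.subscheme := by
    have hpre : IsPreirreducible (Set.univ : Set I.subscheme) := by
      refine VertIntLib.isPreirreducible_of_image I.subschemeι.isEmbedding.isInducing ?_
      rw [Set.image_univ, hrange]
      exact isIrreducible_singleton.closure.isPreirreducible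
    obtain ⟨c, -⟩ := hrange.ge (subset_closure (Set.mem_singleton z))
    exact { toPreirreducibleSpace := ⟨hpre⟩, toNonempty := ⟨c⟩ }
  haveI : IsIntegral I.subscheme := isIntegral_of_irreducibleSpace_of_isReduced _
  set e := Spec.map (CommRingCat.ofHom (residue R))
  haveI : IsClosedImmersion e := IsClosedImmersion.spec_of_surjective _ residue_surjective
  have hsub : closure ({z} : Set X.left) ⊆ Models.specialFibreSet R X :=
    closure_minimal (Set.singleton_subset_iff.2 hz) (Models.isClosed_specialFibreSet R X)
  have hker : e.ker ≤ (I.subschemeι ≫ X.hom).ker := by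
    rw [Scheme.Hom.ker_comp, Scheme.IdealSheafData.le_map_iff_comap_le, Scheme.IdealSheafData.ker_subschemeι,
      ← Scheme.IdealSheafData.le_support_iff_le_vanishingIdeal]
    intro x hx
    rw [Scheme.IdealSheafData.support_comap]
    show X.hom x ∈ e.ker.support
    rw [show X.hom x = closedPoint R from hsub hx, ← SetLike.mem_coe, Scheme.Hom.support_ker]
    exact subset_closure ⟨closedPoint (ResidueField R), IsLocalRing.comap_closedPoint (residue R)⟩
  have hdim : topologicalKrullDim I.subscheme = 1 := by
    rw [I.subschemeι.isEmbedding.toHomeomorph.isHomeomorph.topologicalKrullDim_eq, hrange, hd]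
  exact ⟨⟨Over.mk (IsClosedImmersion.lift e (I.subschemeι ≫ X.hom) hker), I.subschemeι, inferInstance,
    ‹IsIntegral I.subscheme›, hdim, (IsClosedImmersion.lift_fac e (I.subschemeι ≫ X.hom) hker).symm⟩, hrange⟩

/-- A chain of three points. -/
theorem exists_three {A : Type u} [TopologicalSpace A] [T0Space A] [QuasiSober A]
    (h : ¬ topologicalKrullDim A ≤ 1) : ∃ a b c : A, a ⤳ b ∧ b ⤳ c ∧ a ≠ b ∧ b ≠ c := by
  by_contra! hne
  refine h (Order.krullDim_le_one_iff.mpr fun Z => ?_)
  by_contra hc
  simp only [not_or, IsMin, IsMax, not_forall] at hc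
  obtain ⟨⟨Z₀, hle₀, hn₀⟩, ⟨Z₂, hle₂, hn₂⟩⟩ := hc
  obtain ⟨a, ha⟩ := QuasiSober.sober Z₂.isIrreducible Z₂.isClosed
  obtain ⟨b, hb⟩ := QuasiSober.sober Z.isIrreducible Z.isClosed
  obtain ⟨c, hc⟩ := QuasiSober.sober Z₀.isIrreducible Z₀.isClosed
  have hab : a ⤳ b := ha.specializes (hle₂ hb.mem)
  have hbc : b ⤳ c := hb.specializes (hle₀ hc.mem)
  have nab : a ≠ b := fun e => hn₂ fun x hx => by
    show x ∈ (Z : Set A)
    rw [← hb.def, ← e, ha.def]; exact hx
  have e := hne a b c hab hbc nab
  exact hn₀ fun x hx => by
    show x ∈ (Z₀ : Set A)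
    rw [← hc.def, ← e, hb.def]; exact hx

theorem exists_list_of_dim_two [IsProper X.hom] (hd2 : topologicalKrullDim X.left = 2) :
    ∃ (n : ℕ) (Γ : Fin n → ArSurf.VertComp R X), Models.IsComponentList R X Γ := by
  haveI : IsLocallyNoetherian X.left := LocallyOfFiniteType.isLocallyNoetherian X.hom
  haveI : CompactSpace X.left := QuasiCompact.compactSpace_of_compactSpace X.hom
  haveI : IsNoetherian X.left := {}
  obtain ⟨a, b, c, hab, hbc, nab, nbc⟩ := exists_three (A := X.left) (by rw [hd2]; exact (by decide : ¬ (2 : WithBot ℕ∞) ≤ 1))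
  obtain ⟨x, hxc, hxcl⟩ := (isClosed_closure (s := ({c} : Set X.left))).exists_closed_singleton
    ⟨c, subset_closure rfl⟩
  have hcx : c ⤳ x := specializes_iff_mem_closure.2 hxc
  have hx0 : X.hom x = closedPoint R := by
    have h := X.hom.isClosedMap _ hxcl
    rw [Set.image_singleton] at h
    exact ((IsLocalRing.specializes_closedPoint (X.hom x : PrimeSpectrum R)).mem_closed h rfl).symm
  have hbx : b ⤳ x := hbc.trans hcx
  have nbx : b ≠ x := fun e => nbc (hbc.antisymm (e ▸ hcx)).eq
  have hxg : ¬ VertIntLib.IsFibGen x := fun hg => by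
    have hd : topologicalKrullDim (Spec (X.left.presheaf.stalk x)) ≤ 1 :=
      ((PrimeSpectrum.topologicalKrullDim_eq_ringKrullDim _).trans (VertIntLib.dim_stalk_eq_one hx0 hg)).le
    obtain ⟨pa, ha⟩ : a ∈ Set.range (X.left.fromSpecStalk x) := by
      rw [Scheme.range_fromSpecStalk]; exact hab.trans hbx
    obtain ⟨pb, hb⟩ : b ∈ Set.range (X.left.fromSpecStalk x) := by
      rw [Scheme.range_fromSpecStalk]; exact hbx
    obtain ⟨px, hx⟩ : x ∈ Set.range (X.left.fromSpecStalk x) := by
      rw [Scheme.range_fromSpecStalk]; exact specializes_rfl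
    have hi := (X.left.fromSpecStalk x).isEmbedding.isInducing
    exact FinPicLib.not_three hd
      (hi.specializes_iff.1 (show X.left.fromSpecStalk x pa ⤳ X.left.fromSpecStalk x pb by rw [ha, hb]; exact hab))
      (hi.specializes_iff.1 (show X.left.fromSpecStalk x pb ⤳ X.left.fromSpecStalk x px by rw [hb, hx]; exact hbx)) (fun e => nab (by rw [← ha, ← hb, e]))
      (fun e => nbx (hb.symm.trans ((congrArg _ e).trans hx)))
  simp only [VertIntLib.IsFibGen, not_forall] at hxg
  obtain ⟨z, hz, hzx, hne⟩ := hxg
  have hη : ∀ w, X.hom w = closedPoint R → genericPoint X.left ≠ w := fun w hw e => by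
    rw [← e, VertIntLib.genericPoint_over] at hw
    exact VertIntLib.eta_ne_closedPoint hw
  have hzg : VertIntLib.IsFibGen z := fun w hw hwz => by
    by_contra hwne
    exact RelMinSmLib.not_four hd2.le ((genericPoint_spec X.left).specializes trivial) hwz hzx (hη w hw) hwne hne
  have hdz : topologicalKrullDim (closure ({z} : Set X.left)) = 1 := by
    refine le_antisymm ?_ ?_
    · by_contra h
      haveI : QuasiSober (closure ({z} : Set X.left)) := isClosed_closure.isClosedEmbedding_subtypeVal.quasiSober
      obtain ⟨p, q, r, hpq, hqr, npq, nqr⟩ := exists_three h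
      have hp : X.hom (p : X.left) = closedPoint R :=
        (closure_minimal (Set.singleton_subset_iff.2 (show z ∈ Models.specialFibreSet R X from hz))
          (Models.isClosed_specialFibreSet R X)) p.2
      exact RelMinSmLib.not_four hd2.le ((genericPoint_spec X.left).specializes trivial)
        (hpq.map continuous_subtype_val) (hqr.map continuous_subtype_val) (hη _ hp)
        (fun e => npq (Subtype.ext e)) (fun e => nqr (Subtype.ext e))
    · haveI : QuasiSober (closure ({z} : Set X.left)) := isClosed_closure.isClosedEmbedding_subtypeVal.quasiSober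
      by_contra h
      have h0 : topologicalKrullDim (closure ({z} : Set X.left)) ≤ 0 := by
        have h1 := not_le.1 h
        revert h1
        generalize topologicalKrullDim (closure ({z} : Set X.left)) = d
        intro h1
        induction d using WithBot.recBotCoe with
        | bot => exact bot_le
        | coe m => exact_mod_cast (ENat.lt_one_iff_eq_zero.1 (by exact_mod_cast h1)).le
      obtain ⟨-, hT⟩ := CurvLib.finite_of_dim_le_zero h0
      haveI := hT
      let p : closure ({z} : Set X.left) := ⟨z, subset_closure rfl⟩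
      let q : closure ({z} : Set X.left) := ⟨x, specializes_iff_mem_closure.1 hzx⟩
      have hpq : p ⤳ q := (subtype_specializes_iff p q).2 hzx
      exact hne (congrArg Subtype.val hpq.eq)
  obtain ⟨Γ₀, hΓ₀⟩ := exists_vertComp_of_dim hz hdz
  refine VertIntLib.exists_componentList Γ₀ ?_
  have hg0 : Models.genPtOf R X Γ₀ = z := by
    have h := hΓ₀
    rw [VertIntLib.range_eq_closure] at h
    exact IsGenericPoint.eq (S := closure ({z} : Set X.left)) h rfl
  rw [hg0]; exact hzg

end VertChiLib
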