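import Groth.Agent.VertChiLib.Add
import Groth.Agent.VertIntLib.Matrix
import Groth.Agent.SurfAmpleLib.QuotSeq
import Groth.Agent.NumTrivLib.Transfer
import Groth.Agent.SurfNumLib.CastSev

/-!
# Euler characteristics of divisors in the closed fibre
-/

set_option autoImplicit false
set_option backward.isDefEq.respectTransparency false
set_option linter.style.haveILetI false
set_option linter.unusedSectionVars false
set_option maxHeartbeats 800000
universe u
open AlgebraicGeometry CategoryTheory CategoryTheory.Limits TopologicalSpace IsLocalRing Opposite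
open KFlatLib (pb)

noncomputable section

namespace VertChiLib

variable {R : Type u} [CommRing R] [IsDomain R] [IsDiscreteValuationRing R]
  {X : Over (Spec (CommRingCat.of R))} [IsProper X.hom] (Γ : ArSurf.VertComp R X)

local notation "κ" => IsLocalRing.ResidueField R

/-- Lengths of cohomology of modules on a vertical curve. -/
theorem len_push (N : Γ.curve.left.Modules) (hN : Coh.IsCoh N) (j : ℕ) :
    Module.length R (Coh.HH X.left ((Coh.push Γ.ι).obj N) j) =
      (Module.finrank κ (Coh.HH Γ.curve.left N j) : ℕ∞) := by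
  haveI := VertIntLib.isProper_curve Γ
  haveI := hN.1
  haveI : Module.Finite κ (Coh.HH Γ.curve.left N j) := CurvLib.finite_HH (k := κ) hN j
  letI := Module.compHom (Coh.HH Γ.curve.left N j) (Coh.toGlobal (Γ.ι ≫ X.hom))
  haveI : IsScalarTower R κ (Coh.HH Γ.curve.left N j) := IsScalarTower.of_algebraMap_smul fun r x => by
    show Coh.toGlobal (Γ.curve.left ↘ Spec (CommRingCat.of κ)) (residue R r) • x =
      Coh.toGlobal (Γ.ι ≫ X.hom) r • x
    rw [← VertIntLib.over_hom Γ]
    exact congrArg (· • x) (NodalLib.toGlobal_comp_specMap' (Γ.curve.left ↘ Spec (CommRingCat.of κ))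
      (CommRingCat.ofHom (residue R)) r).symm
  obtain ⟨e⟩ := PushLinLib.nonempty_HH_push_linear (q := X.hom) Γ.ι N rfl j
  rw [← Module.length_eq_finrank κ (Coh.HH Γ.curve.left N j),
    ← Module.length_eq_of_surjective (R := κ) (M := Coh.HH Γ.curve.left N j) (S := R) residue_surjective]
  exact e.length_eq.symm

/-- Coherent modules on a vertical curve. -/
theorem fin1_push (N : Γ.curve.left.Modules) (hN : Coh.IsCoh N) :
    Fin1 R ((Coh.push Γ.ι).obj N) ∧ χ R ((Coh.push Γ.ι).obj N) = Curv2.euler κ Γ.curve.left N := by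
  haveI := VertIntLib.isProper_curve Γ
  haveI := hN.1
  haveI : IsNoetherian Γ.curve.left := CurvLib.isNoetherian κ (X := Γ.curve.left)
  have hv : ∀ j, 2 ≤ j → Subsingleton (Coh.HH Γ.curve.left N j) := fun j hj =>
    CurvLib.subsingleton_HH_of_dim_le N (d := 1) Γ.dim_eq.le j (by omega)
  refine ⟨⟨fun j => by rw [len_push Γ N hN]; exact ENat.coe_ne_top _, fun j hj => ?_⟩, ?_⟩
  · haveI := hv j hj
    rw [← Module.length_eq_zero_iff (R := R), len_push Γ N hN, Module.finrank_zero_of_subsingleton,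
      Nat.cast_zero]
  · simp only [χ, len, len_push Γ N hN, ENat.toNat_natCast, CurvLib.euler_eq_sub hv]

/-- The projection formula for `I ⊗ O_Γ`. -/
theorem nonempty_tensor_quot {I : X.left.IdealSheafData} (hinv : PicF.IsInvertible (ClSub.idealMod I)) :
    Nonempty (CohB1.tensorMod (ClSub.idealMod I) (ClSub.quotMod Γ.ι.ker) ≅
      (Coh.push Γ.ι).obj (pb Γ.ι (ClSub.idealMod I))) := by
  obtain ⟨q⟩ := SurfNumLib.quotMod_ker_iso Γ.ι
  obtain ⟨p⟩ := NumTrivLib.nonempty_proj Γ.ι (Coh.structureModule Γ.curve.left) hinv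
  have c : Nonempty (CohB1.tensorMod (pb Γ.ι (ClSub.idealMod I)) (Coh.structureModule Γ.curve.left) ≅
      pb Γ.ι (ClSub.idealMod I)) := ⟨HilbPolyLib.swapIso _ _ ≪≫ HilbPolyLib.unitLeft _⟩
  obtain ⟨c⟩ := c
  have d : Nonempty (CohB1.tensorMod (ClSub.idealMod I) (ClSub.quotMod Γ.ι.ker) ≅
      CohB1.tensorMod (ClSub.idealMod I) ((Coh.push Γ.ι).obj (Coh.structureModule Γ.curve.left))) :=
    ⟨HilbPolyLib.swapIso _ _ ≪≫ HilbPolyLib.congrLeft q _ ≪≫ HilbPolyLib.swapIso _ _⟩
  obtain ⟨d⟩ := d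
  exact ⟨d ≪≫ p ≪≫ (Coh.push Γ.ι).mapIso c⟩

theorem deg_eq (N : Γ.curve.left.Modules) :
    Curv2.euler κ Γ.curve.left N =
      Curv2.deg κ Γ.curve.left N 1 + ((Models.wdeg R X Γ : ℤ) - (Models.h1 R X Γ : ℤ)) := by
  haveI := VertIntLib.isProper_curve Γ
  haveI : IsNoetherian Γ.curve.left := CurvLib.isNoetherian κ (X := Γ.curve.left)
  have h := CurvLib.euler_eq_sub (k := κ) (M := Coh.structureModule Γ.curve.left)
      (fun j hj => CurvLib.subsingleton_HH_of_dim_le _ (d := 1) Γ.dim_eq.le j (by omega))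
  simp only [Curv2.deg, Models.wdeg, Models.h1, Nat.cast_one, one_mul]
  linarith

/-- `I ⊗ O_Γ`. -/
theorem fin1_tensor_quot {I : X.left.IdealSheafData}
    (hI : BlowUp.IsEffCartierIdeal I) :
    Fin1 R (CohB1.tensorMod (ClSub.idealMod I) (ClSub.quotMod Γ.ι.ker)) ∧
      χ R (CohB1.tensorMod (ClSub.idealMod I) (ClSub.quotMod Γ.ι.ker)) =
        VertIntLib.dId Γ I + ((Models.wdeg R X Γ : ℤ) - (Models.h1 R X Γ : ℤ)) := by
  haveI := VertIntLib.isProper_curve Γ
  haveI : IsNoetherian Γ.curve.left := CurvLib.isNoetherian κ (X := Γ.curve.left)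
  have hinv := IntMultLib.isInvertible_idealMod _ hI
  obtain ⟨e⟩ := nonempty_tensor_quot Γ hinv
  obtain ⟨h1, h2⟩ := fin1_push Γ (pb Γ.ι (ClSub.idealMod I))
    (CurvLib.isCoh_of_isInvertible (AmpleDevLib.isInvertible_pb Γ.ι hinv))
  exact ⟨h1.congr e.symm, (χ_congr e).trans (h2.trans (deg_eq Γ _))⟩

theorem quotMod_one {W : Scheme.{u}} : IsZero (ClSub.quotMod (1 : W.IdealSheafData)) := by
  haveI : IsEmpty (1 : W.IdealSheafData).subscheme := ⟨fun z => by
    have h : (1 : W.IdealSheafData).subschemeι.base z ∈ ((1 : W.IdealSheafData).support : Set W) :=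
      (1 : W.IdealSheafData).range_subschemeι ▸ Set.mem_range_self z
    have h' : (1 : W.IdealSheafData).support = ⊥ := Scheme.IdealSheafData.support_top
    exact (congrArg (fun c : Closeds W => (1 : W.IdealSheafData).subschemeι.base z ∈ (c : Set W)) h').mp h⟩
  refine (IsZero.iff_id_eq_zero _).2 (Scheme.Modules.hom_ext _ _ fun U => ?_)
  haveI : Subsingleton Γ((1 : W.IdealSheafData).subscheme, (1 : W.IdealSheafData).subschemeι ⁻¹ᵁ U) := by
    rw [show ((1 : W.IdealSheafData).subschemeι ⁻¹ᵁ U) = ⊥ from Opens.ext (Set.ext fun z => isEmptyElim z)]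
    exact CommRingCat.subsingleton_of_isTerminal (1 : W.IdealSheafData).subscheme.sheaf.isTerminalOfEmpty
  exact ConcreteCategory.hom_ext _ _ fun x => Subsingleton.elim (α := Γ((1 : W.IdealSheafData).subscheme, (1 : W.IdealSheafData).subschemeι ⁻¹ᵁ U)) _ _

variable {n : ℕ} {Δ : Fin n → ArSurf.VertComp R X}

/-- The ideal of `Σ a_i Δ_i`. -/
def J (Δ : Fin n → ArSurf.VertComp R X) (a : Fin n → ℕ) : X.left.IdealSheafData := ∏ i, (Δ i).ι.ker ^ a i

theorem J_add (a b : Fin n → ℕ) : J Δ (a + b) = J Δ a * J Δ b := by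
  simp only [J, Pi.add_apply, pow_add, Finset.prod_mul_distrib]

theorem J_single [DecidableEq (Fin n)] (i : Fin n) : J Δ (Pi.single i 1) = (Δ i).ι.ker := by
  rw [J, Finset.prod_eq_single i (fun j _ hj => by rw [Pi.single_eq_of_ne hj, pow_zero]) (by simp),
    Pi.single_eq_same, pow_one]

theorem J_zero : J Δ 0 = 1 := Finset.prod_eq_one fun i _ => pow_zero _

variable (hC : ∀ i, BlowUp.IsEffCartierIdeal (Δ i).ι.ker)

include hC in
theorem isEffCartier_J (a : Fin n → ℕ) : BlowUp.IsEffCartierIdeal (J Δ a) :=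
  SurfAmpleLib.isEffCartier_finprod _ fun i _ => SurfAmpleLib.isEffCartier_pow' (hC i) _

include hC in
theorem dId_J (a : Fin n → ℕ) : VertIntLib.dId Γ (J Δ a) = ∑ j, (a j : ℤ) * VertIntLib.dId Γ (Δ j).ι.ker := by
  rw [J, VertIntLib.dId_prod Γ Finset.univ fun j _ => SurfAmpleLib.isEffCartier_pow' (hC j) _]
  exact Finset.sum_congr rfl fun j _ => VertIntLib.dId_pow Γ (hC j) _

variable [IsLocallyNoetherian X.left]

include hC in
/-- Adding one component. -/
theorem step (a : Fin n → ℕ) (i : Fin n) [DecidableEq (Fin n)] (h : Fin1 R (ClSub.quotMod (J Δ a))) :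
    Fin1 R (ClSub.quotMod (J Δ (a + Pi.single i 1))) ∧
      χ R (ClSub.quotMod (J Δ (a + Pi.single i 1))) = χ R (ClSub.quotMod (J Δ a)) +
        (VertIntLib.dId (Δ i) (J Δ a) + ((Models.wdeg R X (Δ i) : ℤ) - (Models.h1 R X (Δ i) : ℤ))) := by
  obtain ⟨S, hS, ⟨e1⟩, ⟨e2⟩, ⟨e3⟩⟩ := SurfAmpleLib.exists_quotSeq (isEffCartier_J hC a) (hC i)
  obtain ⟨g1, g2⟩ := fin1_tensor_quot (Δ i) (isEffCartier_J hC a)
  obtain ⟨k1, k2⟩ := add hS (g1.congr e1.symm) (h.congr e3.symm)
  rw [J_add, J_single]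
  refine ⟨k1.congr e2, ?_⟩
  rw [← χ_congr e2, k2, χ_congr e1, χ_congr e3, g2, add_comm]

include hC in
theorem fin1_J (a : Fin n → ℕ) : Fin1 R (ClSub.quotMod (J Δ a)) := by
  classical
  induction h : ∑ i, a i generalizing a with
  | zero =>
    obtain rfl : a = 0 := funext fun i => by simpa using (Finset.sum_eq_zero_iff.1 h) i (Finset.mem_univ i)
    rw [J_zero]
    exact (of_isZero quotMod_one).1
  | succ m ih =>
    obtain ⟨i, hi⟩ : ∃ i, a i ≠ 0 := by
      by_contra hne
      push_neg at hne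
      simp [hne] at h
    obtain ⟨b, rfl⟩ : ∃ b, a = b + Pi.single i 1 := ⟨a - Pi.single i 1, funext fun j => by
      rcases eq_or_ne j i with rfl | hj
      · simp; omega
      · simp [hj]⟩
    refine (step hC b i (ih b ?_)).1
    simp only [Pi.add_apply, Finset.sum_add_distrib, Finset.sum_pi_single', Finset.mem_univ, if_true] at h
    omega

theorem χ_one : χ R (ClSub.quotMod (1 : X.left.IdealSheafData)) = 0 := (of_isZero quotMod_one).2

end VertChiLib
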