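import Groth.Agent.VertChiLib.Chi
import Groth.Agent.VertIntLib.Pic
import Groth.Agent.CohCmpLib.EulerFibre

/-!
# The Euler characteristic of the closed fibre
-/

set_option autoImplicit false
set_option backward.isDefEq.respectTransparency false
set_option linter.style.haveILetI false
set_option linter.unusedSectionVars false
set_option maxHeartbeats 800000
universe u
open AlgebraicGeometry CategoryTheory CategoryTheory.Limits TopologicalSpace IsLocalRing Opposite
open KFlatLib (pb)

noncomputable section

namespace VertChiLib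

theorem ker_specMap {A B : Type u} [CommRing A] [CommRing B] (φ : A →+* B) :
    (Spec.map (CommRingCat.ofHom φ)).ker = Curv2.idealSheaf A (RingHom.ker φ) := by
  rw [Scheme.ker_of_isAffine, Curv2.idealSheaf]
  congr 1
  let eA := (Scheme.ΓSpecIso (CommRingCat.of A)).commRingCatIsoToRingEquiv
  let eB := (Scheme.ΓSpecIso (CommRingCat.of B)).commRingCatIsoToRingEquiv
  have key : ∀ x, eB ((Spec.map (CommRingCat.ofHom φ)).appTop.hom x) = φ (eA x) := fun x =>
    congr($(Scheme.ΓSpecIso_naturality (CommRingCat.ofHom φ)) x)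
  ext x
  have e : ∀ y, (Scheme.ΓSpecIso (CommRingCat.of A)).inv.hom y = eA.symm y := fun y => rfl
  rw [RingHom.mem_ker, Ideal.mem_map_iff_of_surjective _ (fun z => ⟨eA z, (e _).trans (eA.symm_apply_apply z)⟩)]
  constructor
  · intro h
    exact ⟨eA x, by rw [RingHom.mem_ker, ← key, h, map_zero], (e _).trans (eA.symm_apply_apply x)⟩
  rintro ⟨y, hy, rfl⟩
  rw [e]
  refine (map_eq_zero_iff eB eB.injective).1 ?_
  rw [key, eA.apply_symm_apply]
  exact hy

theorem comap_ker {X Y W : Scheme.{u}} (f : X ⟶ Y) (v : W ⟶ Y) [IsClosedImmersion v] :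
    v.ker.comap f = (pullback.fst f v).ker := by
  let e : pullback f v ⟶ pullback f v.ker.subschemeι :=
    pullback.map _ _ _ _ (𝟙 _) v.toImage (𝟙 _) (by simp) (by
      rw [Category.comp_id]; exact v.toImage_imageι.symm)
  show (pullback.fst f v.ker.subschemeι).ker = _
  rw [← Scheme.Hom.ker_comp_of_isIso e (pullback.fst f v.ker.subschemeι)]
  congr 1
  simp [e]

variable {R : Type u} [CommRing R] [IsDomain R] [IsDiscreteValuationRing R]
  {X : Over (Spec (CommRingCat.of R))} [IsProper X.hom]

local notation "κ" => IsLocalRing.ResidueField R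

/-- Lengths of cohomology of modules pushed forward from the closed fibre. -/
theorem len_push' {Z : Scheme.{u}} (ι : Z ⟶ X.left) [IsClosedImmersion ι] (q : Z ⟶ Spec (CommRingCat.of κ))
    (w : q ≫ Spec.map (CommRingCat.ofHom (residue R)) = ι ≫ X.hom) (N : Z.Modules) (hN : Coh.IsCoh N) (j : ℕ) :
    letI : Z.Over (Spec (CommRingCat.of κ)) := ⟨q⟩
    Module.length R (Coh.HH X.left ((Coh.push ι).obj N) j) = (Module.finrank κ (Coh.HH Z N j) : ℕ∞) := by
  letI : Z.Over (Spec (CommRingCat.of κ)) := ⟨q⟩
  haveI : IsProper (q ≫ Spec.map (CommRingCat.ofHom (residue R))) := by rw [w]; infer_instance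
  haveI : IsProper (Z ↘ Spec (CommRingCat.of κ)) :=
    IsProper.of_comp q (Spec.map (CommRingCat.ofHom (residue R)))
  haveI := hN.1
  haveI : Module.Finite κ (Coh.HH Z N j) := CurvLib.finite_HH (k := κ) hN j
  letI := Module.compHom (Coh.HH Z N j) (Coh.toGlobal (ι ≫ X.hom))
  haveI : IsScalarTower R κ (Coh.HH Z N j) := IsScalarTower.of_algebraMap_smul fun r x => by
    show Coh.toGlobal q (residue R r) • x = Coh.toGlobal (ι ≫ X.hom) r • x
    rw [← w]
    exact congrArg (· • x) (NodalLib.toGlobal_comp_specMap' q (CommRingCat.ofHom (residue R)) r).symm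
  obtain ⟨e⟩ := PushLinLib.nonempty_HH_push_linear (q := X.hom) ι N rfl j
  rw [← Module.length_eq_finrank κ (Coh.HH Z N j),
    ← Module.length_eq_of_surjective (R := κ) (M := Coh.HH Z N j) (S := R) residue_surjective]
  exact e.length_eq.symm

/-- `χ` of the closed fibre is the Euler characteristic of any fibre. -/
theorem χ_fibre [Flat X.hom] {C : Scheme.{u}} {f : C ⟶ Spec (CommRingCat.of (FractionRing R))}
    (hC : Curve.IsSmoothProperCurve (FractionRing R) C f) {g : C ⟶ X.left}
    (hg : IsPullback g f X.hom (Spec.map (CommRingCat.ofHom (algebraMap R (FractionRing R)))))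
    (hfin : Fin1 R (ClSub.quotMod (Models.specialFibreIdeal R X))) :
    χ R (ClSub.quotMod (Models.specialFibreIdeal R X)) =
      @Curv2.euler (FractionRing R) _ C ⟨f⟩ (Coh.structureModule C) := by
  let v := Spec.map (CommRingCat.ofHom (residue R))
  haveI : IsClosedImmersion v := IsClosedImmersion.spec_of_surjective _ residue_surjective
  have hJ : Models.specialFibreIdeal R X = (pullback.fst X.hom v).ker := by
    rw [Models.specialFibreIdeal, ← comap_ker X.hom v, ker_specMap, IsLocalRing.ker_residue]
  haveI : LocallyOfFinitePresentation X.hom := LocallyOfFinitePresentation.iff_locallyOfFiniteType.2 inferInstance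
  have hinv : PicF.IsInvertible (Coh.structureModule X.left) := CurvLib.isInvertible_structureModule
  obtain ⟨-, hfp, hfl⟩ := CohCmpLib.rank_one_hyps X.hom ((CohCmpLib.invertible_iff_rank_one _).1 hinv)
  let Z := pullback X.hom v
  let ι : Z ⟶ X.left := pullback.fst X.hom v
  let q : Z ⟶ Spec (CommRingCat.of κ) := pullback.snd X.hom v
  haveI : IsClosedImmersion ι := inferInstanceAs (IsClosedImmersion (pullback.fst X.hom v))
  letI : Z.Over (Spec (CommRingCat.of κ)) := ⟨q⟩
  haveI : IsProper (Z ↘ Spec (CommRingCat.of κ)) := inferInstanceAs (IsProper q)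
  haveI : IsNoetherian Z := CurvLib.isNoetherian κ (X := Z)
  obtain ⟨e⟩ := SurfNumLib.quotMod_ker_iso ι
  have hN : Coh.IsCoh (Coh.structureModule Z) := DevissLib.isCoh_structureModule Z
  have hlen := fun j => (length_iso (A := R) ((eqToIso (congrArg ClSub.quotMod hJ)) ≪≫ e) j).trans
    (len_push' ι q pullback.condition.symm (Coh.structureModule Z) hN j)
  have hv : ∀ j, 2 ≤ j → Subsingleton (Coh.HH Z (Coh.structureModule Z) j) := fun j hj => by
    have h := hlen j
    haveI := hfin.2 j hj
    rw [Module.length_eq_zero] at h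
    haveI : Module.Finite κ (Coh.HH Z (Coh.structureModule Z) j) := CurvLib.finite_HH (k := κ) hN j
    exact (Module.finrank_zero_iff (R := κ)).1 (by exact_mod_cast h.symm)
  have h1 : χ R (ClSub.quotMod (Models.specialFibreIdeal R X)) = Curv2.euler κ Z (Coh.structureModule Z) := by
    simp only [χ, len, hlen, ENat.toNat_natCast, CurvLib.euler_eq_sub hv]
  have h2 := CohCmpLib.euler_bc hfp hfl (IsPullback.of_hasPullback X.hom v) (closedPoint κ)
  have h3 := CohCmpLib.euler_bc hfp hfl hg (closedPoint (FractionRing R))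
  letI : C.Over (Spec (CommRingCat.of (FractionRing R))) := ⟨f⟩
  refine h1.trans ((CurvLib.euler_congr (k := κ) (KFlatLib.pullUnitIso ι).symm).trans ?_)
  refine h2.trans (((CohCmpLib.isLocallyConstant_eulerChar hfp hfl).apply_eq_of_preconnectedSpace _
    (Spec.map (CommRingCat.ofHom (algebraMap R (FractionRing R))) (closedPoint (FractionRing R)))).trans ?_)
  exact h3.symm.trans (CurvLib.euler_congr (KFlatLib.pullUnitIso g))

/-- `χ(O_C) = 1 - g`. -/
theorem euler_curve {C : Scheme.{u}} {f : C ⟶ Spec (CommRingCat.of (FractionRing R))}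
    (hC : Curve.IsSmoothProperCurve (FractionRing R) C f) (hH0 : IsIso f.appTop) :
    @Curv2.euler (FractionRing R) _ C ⟨f⟩ (Coh.structureModule C) =
      1 - (Models.curveGenus (FractionRing R) C f : ℤ) := by
  letI : C.Over (Spec (CommRingCat.of (FractionRing R))) := ⟨f⟩
  haveI : IsProper (C ↘ Spec (CommRingCat.of (FractionRing R))) := hC.1
  haveI : IsNoetherian C := CurvLib.isNoetherian (FractionRing R) (X := C)
  rw [CurvLib.euler_eq_sub fun j hj => CurvLib.subsingleton_HH_of_dim_le _ (d := 1) hC.2.2.2.le j (by omega)]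
  have hbij : Function.Bijective (fun r => (show Γ(C, ⊤) from Coh.toGlobal f r)) :=
    ((Scheme.ΓSpecIso (CommRingCat.of (FractionRing R))).symm ≪≫ asIso f.appTop).commRingCatIsoToRingEquiv.bijective
  let e : Coh.HH C (Coh.structureModule C) 0 ≃+ Γ(C, ⊤) := DegPullLib.e0 (Coh.structureModule C)
  let l : FractionRing R →ₗ[FractionRing R] Coh.HH C (Coh.structureModule C) 0 :=
    LinearMap.toSpanSingleton _ _ (e.symm 1)
  have hl : ∀ r, e (l r) = (show Γ(C, ⊤) from Coh.toGlobal f r) := fun r => by
    refine (DegPullLib.e0_smul (Coh.structureModule C) _ (e.symm 1)).trans ?_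
    show (show Γ(C, ⊤) from Coh.toGlobal f r) * e (e.symm 1) = _
    rw [e.apply_symm_apply, mul_one]
  have hlb : Function.Bijective l := by
    refine (Function.Bijective.of_comp_iff' e.bijective l).1 ?_
    rw [show e ∘ l = fun r => (show Γ(C, ⊤) from Coh.toGlobal f r) from funext hl]
    exact hbij
  rw [← (LinearEquiv.ofBijective l hlb).finrank_eq, Module.finrank_self, Models.curveGenus, Models.hRank]
  simp

end VertChiLib

namespace VertChiLib

variable {R : Type u} [CommRing R] [IsDomain R] [IsDiscreteValuationRing R]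
  {X : Over (Spec (CommRingCat.of R))} [IsProper X.hom] [IsIntegral X.left] [Flat X.hom]

/-- `χ(O_D) = 1 - g` for the whole closed fibre `D`. -/
theorem χ_mult (hreg : ∀ x : X.left, IsRegularLocalRing (X.left.presheaf.stalk x))
    {n : ℕ} {Γ : Fin n → ArSurf.VertComp R X} (hΓ : Models.IsComponentList R X Γ)
    {C : Scheme.{u}} {f : C ⟶ Spec (CommRingCat.of (FractionRing R))}
    (hC : Curve.IsSmoothProperCurve (FractionRing R) C f) (hH0 : IsIso f.appTop) {g : C ⟶ X.left}
    (hg : IsPullback g f X.hom (Spec.map (CommRingCat.ofHom (algebraMap R (FractionRing R))))) :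
    χ R (ClSub.quotMod (J Γ fun i => Models.mult R X (Γ i))) =
      1 - (Models.curveGenus (FractionRing R) C f : ℤ) := by
  haveI : IsLocallyNoetherian X.left := LocallyOfFiniteType.isLocallyNoetherian X.hom
  have hJ : Models.specialFibreIdeal R X = J Γ (fun i => Models.mult R X (Γ i)) :=
    VertIntLib.specialFibreIdeal_eq hreg hΓ
  rw [← hJ, χ_fibre hC hg, euler_curve hC hH0]
  rw [hJ]
  exact fin1_J (fun i => VertIntLib.isEffCartier_ker hreg (Γ i) (VertIntLib.isFibGen_of_list hΓ i)) _

end VertChiLib
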