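import Groth.Agent.VertChiLib.Chi

/-!
# The Euler characteristic of a vertical divisor
-/

set_option autoImplicit false
set_option backward.isDefEq.respectTransparency false
set_option linter.style.haveILetI false
set_option linter.unusedSectionVars false
universe u
open AlgebraicGeometry CategoryTheory CategoryTheory.Limits TopologicalSpace IsLocalRing

noncomputable section

namespace VertChiLib

variable {R : Type u} [CommRing R] [IsDomain R] [IsDiscreteValuationRing R]
  {X : Over (Spec (CommRingCat.of R))} [IsIntegral X.left] [Flat X.hom] [IsProper X.hom]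
  (hreg : ∀ x : X.left, IsRegularLocalRing (X.left.presheaf.stalk x))
  {n : ℕ} {Γ : Fin n → ArSurf.VertComp R X} (hΓ : Models.IsComponentList R X Γ)
  {L : Fin n → X.left.Modules} (hL : ∀ i, ClSub.IsInverseOf (L i) (ClSub.idealMod (Γ i).ι.ker))

/-- `χ(O_Γ)`. -/
def cst (Γ₀ : ArSurf.VertComp R X) : ℤ := (Models.wdeg R X Γ₀ : ℤ) - (Models.h1 R X Γ₀ : ℤ)

include hreg hΓ in
theorem isEffCartier_list (i : Fin n) : BlowUp.IsEffCartierIdeal (Γ i).ι.ker :=
  VertIntLib.isEffCartier_ker hreg (Γ i) (VertIntLib.isFibGen_of_list hΓ i)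

include hreg hΓ hL in
theorem χ_step (a : Fin n → ℕ) (i : Fin n) :
    χ R (ClSub.quotMod (J Γ (a + Pi.single i 1))) - χ R (ClSub.quotMod (J Γ a)) =
      -(∑ j, (a j : ℤ) * ArSurf.inter R X (L j) (Γ i)) + cst (Γ i) := by
  haveI : IsLocallyNoetherian X.left := LocallyOfFiniteType.isLocallyNoetherian X.hom
  have hC := isEffCartier_list hreg hΓ
  rw [(step hC a i (fin1_J hC a)).2, dId_J (Γ i) hC a, ← Finset.sum_neg_distrib]
  have h : ∀ j, (a j : ℤ) * VertIntLib.dId (Γ i) (Γ j).ι.ker = -((a j : ℤ) * ArSurf.inter R X (L j) (Γ i)) :=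
    fun j => by rw [VertIntLib.inter_eq_neg (Γ i) (hC j) (hL j)]; ring
  rw [Finset.sum_congr rfl fun j _ => h j, cst]
  ring

include hreg hΓ hL in
/-- `2χ(O_D) = -(D·D) + Σ a_i ((Γ_i·Γ_i) + 2χ(O_{Γ_i}))`. -/
theorem two_χ (a : Fin n → ℕ) :
    2 * χ R (ClSub.quotMod (J Γ a)) =
      -(∑ i, (a i : ℤ) * ∑ j, (a j : ℤ) * ArSurf.inter R X (L j) (Γ i)) +
        ∑ i, (a i : ℤ) * (ArSurf.inter R X (L i) (Γ i) + 2 * cst (Γ i)) := by
  classical
  haveI : IsLocallyNoetherian X.left := LocallyOfFiniteType.isLocallyNoetherian X.hom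
  induction h : ∑ i, a i generalizing a with
  | zero =>
    obtain rfl : a = 0 := funext fun i => by simpa using (Finset.sum_eq_zero_iff.1 h) i (Finset.mem_univ i)
    rw [J_zero, χ_one]
    simp
  | succ m ih =>
    obtain ⟨i, hi⟩ : ∃ i, a i ≠ 0 := by
      by_contra hne
      push Not at hne
      simp [hne] at h
    obtain ⟨b, rfl⟩ : ∃ b, a = b + Pi.single i 1 := ⟨a - Pi.single i 1, funext fun j => by
      rcases eq_or_ne j i with rfl | hj
      · simp; omega
      · simp [hj]⟩
    simp only [Pi.add_apply, Finset.sum_add_distrib, Finset.sum_pi_single', Finset.mem_univ, if_true] at h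
    have h1 := ih b (by omega)
    have h2 : χ R (ClSub.quotMod (J Γ (b + Pi.single i 1))) - χ R (ClSub.quotMod (J Γ b)) =
      -(∑ j, (b j : ℤ) * ArSurf.inter R X (L j) (Γ i)) + cst (Γ i) := χ_step hreg hΓ hL b i
    have h3 : ∑ k, (b k : ℤ) * ArSurf.inter R X (L i) (Γ k) = ∑ j, (b j : ℤ) * ArSurf.inter R X (L j) (Γ i) :=
      Finset.sum_congr rfl fun k _ => by rw [VertIntLib.list_symm hreg hΓ hL k i]
    have hc : ∀ j, (((b + Pi.single i 1 : Fin n → ℕ) j : ℕ) : ℤ) = (b j : ℤ) + if j = i then 1 else 0 := fun j => by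
      rcases eq_or_ne j i with rfl | hj <;> simp [*]
    simp only [hc, add_mul, mul_add, Finset.sum_add_distrib, ite_mul, one_mul, zero_mul, mul_ite, mul_one,
      mul_zero, Finset.sum_ite_eq', Finset.mem_univ, if_true, h3, Finset.mul_sum, Finset.sum_ite_irrel,
      Finset.sum_const_zero] at h1 h2 ⊢
    linarith

end VertChiLib
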