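import Groth.Agent.VertChiLib.Div
import Groth.Agent.VBP1Lib.Twist
import Groth.Agent.PushLinLib.HH
import Groth.Agent.KFlatLib.QCohPull
import Groth.Agent.QuotSchLib.Fibre

/-!
# Exceptional curves among vertical curves
-/

set_option autoImplicit false
set_option backward.isDefEq.respectTransparency false
set_option linter.style.haveILetI false
set_option linter.unusedSectionVars false
set_option maxHeartbeats 800000
universe u
open AlgebraicGeometry CategoryTheory CategoryTheory.Limits TopologicalSpace IsLocalRing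
open KFlatLib (pb)

noncomputable section

namespace VertChiLib

/-- The Euler characteristic over the ring of constants. -/
def eΓ (Y : Scheme.{u}) (M : Y.Modules) : ℤ :=
  letI : ∀ j, Module Γ(Y, ⊤) (Coh.HH Y M j) := fun j => Coh.moduleΓtop M j
  (Module.finrank Γ(Y, ⊤) (Coh.HH Y M 0) : ℤ) - (Module.finrank Γ(Y, ⊤) (Coh.HH Y M 1) : ℤ)

theorem euler_eq_w_mul {F : Type u} [Field F] {Y : Scheme.{u}} [Y.Over (Spec (CommRingCat.of F))]
    [IsProper (Y ↘ Spec (CommRingCat.of F))] [IsIntegral Y] (hd : topologicalKrullDim Y ≤ ((1 : ℕ) : WithBot ℕ∞))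
    (M : Y.Modules) : Curv2.euler F Y M = (w F Y : ℤ) * eΓ Y M := by
  haveI := CurvLib.isNoetherian F (X := Y)
  rw [CurvLib.euler_eq_sub fun j hj => CurvLib.subsingleton_HH_of_dim_le M (d := 1) hd j (by omega)]
  let ρ : F →+* Γ(Y, ⊤) := Coh.toGlobal (Y ↘ Spec (CommRingCat.of F))
  letI : Algebra F Γ(Y, ⊤) := ρ.toAlgebra
  let e : Coh.HH Y (Coh.structureModule Y) 0 ≃ₗ[F] Γ(Y, ⊤) :=
    { (show Coh.HH Y (Coh.structureModule Y) 0 ≃+ Γ(Y, ⊤) from DegPullLib.e0 (Coh.structureModule Y)) with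
      map_smul' := fun r x => DegPullLib.e0_smul (Coh.structureModule Y) _ x }
  haveI : Module.Finite F (Coh.HH Y (Coh.structureModule Y) 0) :=
    CurvLib.finite_HH (k := F) (DevissLib.isCoh_structureModule _) 0
  haveI : Module.Finite F Γ(Y, ⊤) := Module.Finite.equiv e
  haveI : IsArtinianRing Γ(Y, ⊤) := isArtinian_of_tower F inferInstance
  letI : Field Γ(Y, ⊤) := (IsArtinianRing.isField_of_isDomain _).toField
  letI : ∀ j, Module Γ(Y, ⊤) (Coh.HH Y M j) := fun j => Coh.moduleΓtop M j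
  haveI : ∀ j, IsScalarTower F Γ(Y, ⊤) (Coh.HH Y M j) := fun j => IsScalarTower.of_algebraMap_smul fun r x => rfl
  have hw : w F Y = Module.finrank F Γ(Y, ⊤) := e.finrank_eq
  haveI : ∀ j, Module.Free Γ(Y, ⊤) (Coh.HH Y M j) := fun j => Module.Free.of_divisionRing Γ(Y, ⊤) _
  rw [hw, eΓ, mul_sub, ← Module.finrank_mul_finrank F Γ(Y, ⊤) (Coh.HH Y M 0),
    ← Module.finrank_mul_finrank F Γ(Y, ⊤) (Coh.HH Y M 1)]
  push_cast
  rfl

/-- Euler characteristics along an isomorphism. -/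
theorem euler_iso {F : Type u} [Field F] {P Y : Scheme.{u}} [P.Over (Spec (CommRingCat.of F))]
    [Y.Over (Spec (CommRingCat.of F))] [IsProper (P ↘ Spec (CommRingCat.of F))] (e : P ≅ Y)
    (he : e.hom ≫ (Y ↘ Spec (CommRingCat.of F)) = P ↘ Spec (CommRingCat.of F)) (N : Y.Modules) [Coh.IsQCoh N] :
    Curv2.euler F P (pb e.hom N) = Curv2.euler F Y N ∧
      Curv2.euler F P (Coh.structureModule P) = Curv2.euler F Y (Coh.structureModule Y) := by
  have key : ∀ M : Y.Modules, Coh.IsQCoh M → Curv2.euler F P (pb e.hom M) = Curv2.euler F Y M := fun M hM => by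
    haveI := hM
    rw [(PushLinLib.euler_push F e.inv (by rw [← he, e.inv_hom_id_assoc]) M).2]
    exact CurvLib.euler_congr ((QuotSchLib.pullbackIsoPush e).app M)
  exact ⟨key N inferInstance, (CurvLib.euler_congr (KFlatLib.pullUnitIso e.hom).symm).trans
    (key _ QCohLib.isQCoh_unit)⟩

section Constants

variable {F : Type u} [Field F] {Y : Scheme.{u}} [Y.Over (Spec (CommRingCat.of F))]
  [IsProper (Y ↘ Spec (CommRingCat.of F))] [IsIntegral Y] (hd : topologicalKrullDim Y = 1)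

include hd in
/-- A curve with `H¹(O) = 0` and a line bundle of degree `w` is a projective line over its constants. -/
theorem exists_projLine (h1 : Subsingleton (Coh.HH Y (Coh.structureModule Y) 1)) {N : Y.Modules}
    (hN : PicF.IsInvertible N) (hdeg : Curv2.deg F Y N 1 = (w F Y : ℤ)) :
    ∃ (K : Type u) (_ : Field K) (e : CohB1.ProjSpace 1 K ≅ Y), Nonempty (pb e.hom N ≅ Twist.twistProjSpace 1 K 1) := by
  have hd' : topologicalKrullDim Y ≤ ((1 : ℕ) : WithBot ℕ∞) := hd.le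
  let ρ : F →+* Γ(Y, ⊤) := Coh.toGlobal (Y ↘ Spec (CommRingCat.of F))
  letI : Algebra F Γ(Y, ⊤) := ρ.toAlgebra
  let eO : Coh.HH Y (Coh.structureModule Y) 0 ≃ₗ[F] Γ(Y, ⊤) :=
    { (show Coh.HH Y (Coh.structureModule Y) 0 ≃+ Γ(Y, ⊤) from DegPullLib.e0 (Coh.structureModule Y)) with
      map_smul' := fun r x => DegPullLib.e0_smul (Coh.structureModule Y) _ x }
  haveI : Module.Finite F (Coh.HH Y (Coh.structureModule Y) 0) :=
    CurvLib.finite_HH (k := F) (DevissLib.isCoh_structureModule _) 0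
  haveI : Module.Finite F Γ(Y, ⊤) := Module.Finite.equiv eO
  haveI : IsArtinianRing Γ(Y, ⊤) := isArtinian_of_tower F inferInstance
  letI : Field Γ(Y, ⊤) := (IsArtinianRing.isField_of_isDomain _).toField
  let q : Y ⟶ Spec (CommRingCat.of Γ(Y, ⊤)) := Y.toSpecΓ
  have hq : q ≫ Spec.map (CommRingCat.ofHom ρ) = Y ↘ Spec (CommRingCat.of F) := by
    refine ext_of_isAffine ?_
    rw [Scheme.Hom.comp_appTop]
    apply (cancel_epi (Scheme.ΓSpecIso (CommRingCat.of F)).inv).1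
    rw [← Scheme.ΓSpecIso_inv_naturality_assoc]
    show _ ≫ _ ≫ Y.toSpecΓ.appTop = _
    rw [Scheme.toSpecΓ_appTop]
    ext r
    show (Scheme.ΓSpecIso Γ(Y, ⊤)).hom.hom ((Scheme.ΓSpecIso Γ(Y, ⊤)).inv.hom (ρ r)) = _
    rw [← CommRingCat.comp_apply, Iso.inv_hom_id]
    rfl
  haveI : IsProper (q ≫ Spec.map (CommRingCat.ofHom ρ)) := by rw [hq]; infer_instance
  haveI : IsProper q := IsProper.of_comp q (Spec.map (CommRingCat.ofHom ρ))
  have hqid : ∀ r : Γ(Y, ⊤), (show Γ(Y, ⊤) from Coh.toGlobal q r) = r := fun r => by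
    show ((Scheme.ΓSpecIso (CommRingCat.of Γ(Y, ⊤))).inv ≫ Y.toSpecΓ.appTop).hom r = r
    rw [Scheme.toSpecΓ_appTop]
    show ((Scheme.ΓSpecIso Γ(Y, ⊤)).inv ≫ (Scheme.ΓSpecIso Γ(Y, ⊤)).hom).hom r = r
    rw [Iso.inv_hom_id]
    rfl
  letI : Y.Over (Spec (CommRingCat.of Γ(Y, ⊤))) := ⟨q⟩
  haveI : IsProper (Y ↘ Spec (CommRingCat.of Γ(Y, ⊤))) := inferInstanceAs (IsProper q)
  have hw1 : w Γ(Y, ⊤) Y = 1 := by
    letI : Module Γ(Y, ⊤) (Coh.HH Y (Coh.structureModule Y) 0) := Coh.moduleOver Γ(Y, ⊤) Y (Coh.structureModule Y) 0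
    let e : Coh.HH Y (Coh.structureModule Y) 0 ≃ₗ[Γ(Y, ⊤)] Γ(Y, ⊤) :=
      { (show Coh.HH Y (Coh.structureModule Y) 0 ≃+ Γ(Y, ⊤) from DegPullLib.e0 (Coh.structureModule Y)) with
        map_smul' := fun r x => by
          refine (DegPullLib.e0_smul (Coh.structureModule Y) _ x).trans ?_
          show (show Γ(Y, ⊤) from Coh.toGlobal q r) * (show Γ(Y, ⊤) from DegPullLib.e0 (Coh.structureModule Y) x) =
            r * (show Γ(Y, ⊤) from DegPullLib.e0 (Coh.structureModule Y) x)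
          rw [hqid] }
    unfold w
    exact e.finrank_eq.trans (Module.finrank_self _)
  have hdegK : Curv2.deg Γ(Y, ⊤) Y N 1 = 1 := by
    have hpos : (0 : ℤ) < (w F Y : ℤ) := Int.natCast_pos.2 w_pos_and_dvd.1
    rw [Curv2.deg, Nat.cast_one, one_mul, euler_eq_w_mul hd', euler_eq_w_mul hd', hw1, Nat.cast_one, one_mul, one_mul]
    rw [Curv2.deg, Nat.cast_one, one_mul, euler_eq_w_mul hd', euler_eq_w_mul hd', ← mul_sub] at hdeg
    exact mul_left_cancel₀ hpos.ne' (hdeg.trans (mul_one _).symm)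
  obtain ⟨e, he⟩ := GenusZeroLib.exists_iso_of_deg_one Γ(Y, ⊤) hd h1 hN hdegK
  refine ⟨Γ(Y, ⊤), inferInstance, e.symm, ?_⟩
  have hN' := AmpleDevLib.isInvertible_pb e.inv hN
  obtain ⟨t⟩ := VBP1Lib.exists_iso_twist Γ(Y, ⊤) hN'
  have he' : e.inv ≫ (Y ↘ Spec (CommRingCat.of Γ(Y, ⊤))) = CohB1.ProjSpace 1 Γ(Y, ⊤) ↘ Spec (CommRingCat.of Γ(Y, ⊤)) := by
    rw [← he, e.inv_hom_id_assoc]
    rfl
  have hd1 : Curv2.deg Γ(Y, ⊤) (CohB1.ProjSpace 1 Γ(Y, ⊤)) (pb e.inv N) 1 = 1 := by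
    rw [← hdegK]
    haveI : Coh.IsQCoh N := (CurvLib.isCoh_of_isInvertible hN).1
    simp only [Curv2.deg]
    obtain ⟨ea, eb⟩ := euler_iso e.symm he' N
    rw [Iso.symm_hom] at ea
    rw [ea, eb]
  exact ⟨t ≪≫ eqToIso (congrArg _ hd1)⟩

end Constants

/-- `eΓ O = 1` on the projective line. -/
theorem eΓ_line_structure (K : Type u) [Field K] :
    eΓ (CohB1.ProjSpace 1 K) (Coh.structureModule (CohB1.ProjSpace 1 K)) = 1 := by
  have h := euler_eq_w_mul (F := K) (VBP1Lib.dim_line K).le (Coh.structureModule (CohB1.ProjSpace 1 K))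
  have hwK : w K (CohB1.ProjSpace 1 K) = 1 := VBP1Lib.h0_structure K
  haveI := VBP1Lib.h1_structure K
  rw [hwK, Nat.cast_one, one_mul, CurvLib.euler_curve (k := K) (VBP1Lib.dim_line K), VBP1Lib.h0_structure K,
    Module.finrank_zero_of_subsingleton, Nat.cast_zero, sub_zero, Nat.cast_one] at h
  exact h.symm

/-- `eΓ O(1) = 2` on the projective line. -/
theorem eΓ_line_twist (K : Type u) [Field K] {M : (CohB1.ProjSpace 1 K).Modules}
    (t : M ≅ Twist.twistProjSpace 1 K 1) : eΓ (CohB1.ProjSpace 1 K) M = 2 := by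
  have h := euler_eq_w_mul (F := K) (VBP1Lib.dim_line K).le M
  have h' := euler_eq_w_mul (F := K) (VBP1Lib.dim_line K).le (Coh.structureModule (CohB1.ProjSpace 1 K))
  have hwK : w K (CohB1.ProjSpace 1 K) = 1 := VBP1Lib.h0_structure K
  have hd1 : Curv2.deg K (CohB1.ProjSpace 1 K) M 1 = 1 :=
    (CurvLib.deg_congr t 1).trans (VBP1Lib.deg_twist_one K)
  rw [Curv2.deg, Nat.cast_one, one_mul, h, h', hwK, eΓ_line_structure, Nat.cast_one, one_mul, one_mul] at hd1
  linarith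

theorem subsingleton_h1_of_line {K : Type u} [Field K] {Y : Scheme.{u}} (e : CohB1.ProjSpace 1 K ≅ Y) :
    Subsingleton (Coh.HH Y (Coh.structureModule Y) 1) := by
  letI : Y.Over (Spec (CommRingCat.of K)) := ⟨e.inv ≫ CohB1.ProjSpace.toSpec 1 K⟩
  exact GenusZeroLib.subsingleton_h1_of_iso (k := K) e.symm

/-- Degrees of a pulled back module along an isomorphism with an auxiliary curve. -/
theorem deg_via_iso {F : Type u} [Field F] {P Y : Scheme.{u}} [P.Over (Spec (CommRingCat.of F))]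
    [Y.Over (Spec (CommRingCat.of F))] [IsProper (P ↘ Spec (CommRingCat.of F))] [IsIntegral P]
    (hdP : topologicalKrullDim P ≤ ((1 : ℕ) : WithBot ℕ∞)) (e : P ≅ Y)
    (he : e.hom ≫ (Y ↘ Spec (CommRingCat.of F)) = P ↘ Spec (CommRingCat.of F)) (N : Y.Modules) [Coh.IsQCoh N] :
    Curv2.deg F Y N 1 = (w F P : ℤ) * (eΓ P (pb e.hom N) - eΓ P (Coh.structureModule P)) ∧
      Curv2.euler F Y (Coh.structureModule Y) = (w F P : ℤ) * eΓ P (Coh.structureModule P) := by
  obtain ⟨ea, eb⟩ := euler_iso e he N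
  rw [Curv2.deg, Nat.cast_one, one_mul, ← ea, ← eb, euler_eq_w_mul hdP, euler_eq_w_mul hdP]
  exact ⟨(mul_sub _ _ _).symm, rfl⟩

/-- Invariants of a curve isomorphic to an auxiliary scheme with the numbers of a projective line. -/
theorem of_line_numbers {F : Type u} [Field F] {P Y : Scheme.{u}} [Y.Over (Spec (CommRingCat.of F))]
    [IsProper (Y ↘ Spec (CommRingCat.of F))] [IsIntegral Y] [IsIntegral P] (hd : topologicalKrullDim Y = 1)
    (hdP : topologicalKrullDim P ≤ ((1 : ℕ) : WithBot ℕ∞)) (e : P ≅ Y) (N : Y.Modules) [Coh.IsQCoh N]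
    (hs : Subsingleton (Coh.HH Y (Coh.structureModule Y) 1))
    (hO : eΓ P (Coh.structureModule P) = 1) (hN2 : eΓ P (pb e.hom N) = 2) :
    Module.finrank F (Coh.HH Y (Coh.structureModule Y) 1) = 0 ∧ Curv2.deg F Y N 1 = (w F Y : ℤ) := by
  letI : P.Over (Spec (CommRingCat.of F)) := ⟨e.hom ≫ (Y ↘ Spec (CommRingCat.of F))⟩
  haveI : IsProper (P ↘ Spec (CommRingCat.of F)) :=
    inferInstanceAs (IsProper (e.hom ≫ (Y ↘ Spec (CommRingCat.of F))))
  obtain ⟨h1, h2⟩ := deg_via_iso (F := F) hdP e rfl N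
  rw [hO, hN2] at h1
  rw [hO, CurvLib.euler_curve (k := F) hd, Module.finrank_zero_of_subsingleton (M := Coh.HH Y (Coh.structureModule Y) 1),
    Nat.cast_zero, sub_zero, mul_one] at h2
  refine ⟨Module.finrank_zero_of_subsingleton, ?_⟩
  rw [h1, show (w F Y : ℤ) = (w F P : ℤ) from h2]
  ring

theorem dim_line_le (K : Type u) [Field K] :
    topologicalKrullDim (CohB1.ProjSpace 1 K) ≤ ((1 : ℕ) : WithBot ℕ∞) := (VBP1Lib.dim_line K).le

/-- Invariants of a projective line over some field inside a curve over `F`. -/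
theorem of_projLine {F : Type u} [Field F] {Y : Scheme.{u}} [Y.Over (Spec (CommRingCat.of F))]
    [IsProper (Y ↘ Spec (CommRingCat.of F))] [IsIntegral Y] (hd : topologicalKrullDim Y = 1)
    {K : Type u} [Field K] (e : CohB1.ProjSpace 1 K ≅ Y) {N : Y.Modules} (hN : PicF.IsInvertible N)
    (hiso : Nonempty (pb e.hom N ≅ Twist.twistProjSpace 1 K 1)) :
    Module.finrank F (Coh.HH Y (Coh.structureModule Y) 1) = 0 ∧ Curv2.deg F Y N 1 = (w F Y : ℤ) := by
  haveI : Coh.IsQCoh N := (CurvLib.isCoh_of_isInvertible hN).1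
  exact of_line_numbers hd (dim_line_le K) e N (subsingleton_h1_of_line e) (eΓ_line_structure K)
    (eΓ_line_twist K hiso.some)

/-- The two conditions, on an abstract curve. -/
theorem iff_abstract {F : Type u} [Field F] {Y W : Scheme.{u}} [Y.Over (Spec (CommRingCat.of F))]
    [IsProper (Y ↘ Spec (CommRingCat.of F))] [IsIntegral Y] (hd : topologicalKrullDim Y = 1)
    (ι : Y ⟶ W) (M : W.Modules) (hN : PicF.IsInvertible (pb ι M)) :
    (∃ (K : Type u) (_ : Field K) (e : CohB1.ProjSpace 1 K ≅ Y),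
        Nonempty (pb (e.hom ≫ ι) M ≅ Twist.twistProjSpace 1 K 1)) ↔
      Module.finrank F (Coh.HH Y (Coh.structureModule Y) 1) = 0 ∧ Curv2.deg F Y (pb ι M) 1 = (w F Y : ℤ) := by
  constructor
  · rintro ⟨k, hk, e, ⟨t⟩⟩
    exact of_projLine (F := F) hd e hN ⟨(Scheme.Modules.pullbackComp e.hom ι).app _ ≪≫ t⟩
  · rintro ⟨h1, hdeg⟩
    haveI : Module.Finite F (Coh.HH Y (Coh.structureModule Y) 1) :=
      CurvLib.finite_HH (k := F) (DevissLib.isCoh_structureModule _) 1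
    obtain ⟨K, hK, e, ⟨t⟩⟩ := exists_projLine (F := F) hd
      ((Module.finrank_zero_iff (R := F)).1 h1) hN hdeg
    exact ⟨K, hK, e, ⟨((Scheme.Modules.pullbackComp e.hom ι).app _).symm ≪≫ t⟩⟩

theorem h1_def {R : Type u} [CommRing R] [IsDomain R] [IsDiscreteValuationRing R]
    {X : Over (Spec (CommRingCat.of R))} (Γ : ArSurf.VertComp R X) :
    Models.h1 R X Γ = Module.finrank (ResidueField R) (Coh.HH Γ.curve.left (Coh.structureModule Γ.curve.left) 1) :=
  rfl

/-- The criterion for a vertical curve. -/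
theorem isExcCurve_iff {R : Type u} [CommRing R] [IsDomain R] [IsDiscreteValuationRing R]
    {X : Over (Spec (CommRingCat.of R))} [IsProper X.hom] (Γ : ArSurf.VertComp R X)
    (hI : BlowUp.IsEffCartierIdeal Γ.ι.ker) {L : X.left.Modules}
    (hL : ClSub.IsInverseOf L (ClSub.idealMod Γ.ι.ker)) :
    Models.IsExcCurve Γ.ι ↔
      Models.h1 R X Γ = 0 ∧ ArSurf.inter R X L Γ = -(Models.wdeg R X Γ : ℤ) := by
  haveI := VertIntLib.isProper_curve Γ
  have hN : PicF.IsInvertible (pb Γ.ι (ClSub.idealMod Γ.ι.ker)) :=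
    AmpleDevLib.isInvertible_pb Γ.ι (IntMultLib.isInvertible_idealMod _ hI)
  have key := iff_abstract (F := ResidueField R) Γ.dim_eq Γ.ι (ClSub.idealMod Γ.ι.ker) hN
  have e1 := h1_def Γ
  have e2 : ArSurf.inter R X L Γ = -(Models.wdeg R X Γ : ℤ) ↔
      Curv2.deg (ResidueField R) Γ.curve.left (pb Γ.ι (ClSub.idealMod Γ.ι.ker)) 1 =
        (w (ResidueField R) Γ.curve.left : ℤ) := by
    rw [VertIntLib.inter_eq_neg Γ hI hL, neg_inj]
    exact Iff.rfl
  constructor
  · intro h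
    have h' := key.1 h.2
    exact ⟨e1.trans h'.1, e2.2 h'.2⟩
  · intro h
    exact ⟨hI, key.2 ⟨e1.symm.trans h.1, e2.1 h.2⟩⟩

end VertChiLib
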