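import Groth.Agent.VertChiLib.Chi
import Groth.Agent.CurvLib.RRBasic

/-!
# Rings of functions of vertical divisors
-/

set_option autoImplicit false
set_option backward.isDefEq.respectTransparency false
set_option linter.style.haveILetI false
set_option linter.unusedSectionVars false
set_option maxHeartbeats 800000
universe u
open AlgebraicGeometry CategoryTheory CategoryTheory.Limits TopologicalSpace IsLocalRing Opposite
open KFlatLib (pb)

noncomputable section

namespace VertChiLib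

/-- No sections in negative degree on an integral curve. -/
theorem subsingleton_h0_of_deg_neg {k : Type u} [Field k] {Y : Scheme.{u}} [Y.Over (Spec (CommRingCat.of k))]
    [IsProper (Y ↘ Spec (CommRingCat.of k))] [IsIntegral Y] (hdim : topologicalKrullDim Y = 1)
    {L : Y.Modules} (hL : PicF.IsInvertible L) (hdeg : Curv2.deg k Y L 1 < 0) :
    Subsingleton (Coh.HH Y L 0) := by
  haveI := CurvLib.isNoetherian k (X := Y)
  by_contra hne
  rw [not_subsingleton_iff_nontrivial] at hne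
  obtain ⟨s, hs⟩ := CurvLib.exists_hom_ne_zero hne
  have hO : PicF.IsInvertible (Coh.structureModule Y) := CurvLib.isInvertible_structureModule
  obtain ⟨hQ, hd⟩ := CurvLib.cokernel_data (k := k) hO hL hdim hs
  haveI := CurvLib.mono_of_ne_zero hO hL hs
  let S : ShortComplex Y.Modules := ShortComplex.mk s (cokernel.π s) (cokernel.condition s)
  have hS : S.ShortExact :=
    { exact := ShortComplex.exact_of_g_is_cokernel _ (cokernelIsCokernel s)
      mono_f := inferInstanceAs (Mono s)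
      epi_g := inferInstanceAs (Epi (cokernel.π s)) }
  have h := CurvLib.euler_add_of_isCoh (k := k) hS (CurvLib.isCoh_of_isInvertible hO)
    (CurvLib.isCoh_of_isInvertible hL) hQ
  have h0 := CurvLib.euler_eq_h0 (k := k) hQ (by exact_mod_cast hd)
  have h' : Curv2.euler k Y L = Curv2.euler k Y (Coh.structureModule Y) + Curv2.euler k Y (cokernel s) := h
  rw [Curv2.deg, Nat.cast_one, one_mul] at hdeg
  have : (0 : ℤ) ≤ Curv2.euler k Y (cokernel s) := by
    rw [h0]; exact Int.natCast_nonneg _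
  omega

theorem res_app_eq_zero {X : Scheme.{u}} {J' J : X.IdealSheafData} (hle : J' ≤ J) (U : X.Opens) (s : Γ(X, U))
    (t : Γ(J'.subscheme, ⊤))
    (ht : (Scheme.IdealSheafData.inclusion hle).appTop.hom t = 0)
    (hs : (J'.subschemeι.app U).hom s = (J'.subscheme.presheaf.map (homOfLE (le_top : J'.subschemeι ⁻¹ᵁ U ≤ ⊤)).op).hom t) :
    (J.subschemeι.app U).hom s = 0 := by
  let i := Scheme.IdealSheafData.inclusion hle
  have hi : i ≫ J'.subschemeι = J.subschemeι := Scheme.IdealSheafData.inclusion_subschemeι hle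
  have e : J.subschemeι ⁻¹ᵁ U ≤ i ⁻¹ᵁ (J'.subschemeι ⁻¹ᵁ U) := by rw [← hi]; exact le_rfl
  have h1 : J.subschemeι.appLE U (J.subschemeι ⁻¹ᵁ U) le_rfl =
      J'.subschemeι.app U ≫ i.appLE (J'.subschemeι ⁻¹ᵁ U) (J.subschemeι ⁻¹ᵁ U) e := by
    rw [Scheme.Hom.app_eq_appLE, Scheme.Hom.appLE_comp_appLE]
    simp only [← hi]
  have h2 : (J'.subscheme.presheaf.map (homOfLE (le_top : J'.subschemeι ⁻¹ᵁ U ≤ ⊤)).op) ≫
      i.appLE (J'.subschemeι ⁻¹ᵁ U) (J.subschemeι ⁻¹ᵁ U) e =
      i.appTop ≫ J.subscheme.presheaf.map (homOfLE (le_top : J.subschemeι ⁻¹ᵁ U ≤ i ⁻¹ᵁ ⊤)).op := by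
    rw [Scheme.Hom.map_appLE]
    rfl
  rw [Scheme.Hom.app_eq_appLE, h1, CommRingCat.comp_apply, hs, ← CommRingCat.comp_apply, h2, CommRingCat.comp_apply,
    ht, map_zero]

/-- An epimorphism `O/J' ⟶ O/J` injective on global sections detects global functions. -/
theorem inclusion_injective {X : Scheme.{u}} {J' J : X.IdealSheafData} (hle : J' ≤ J)
    (q : ClSub.quotMod J' ⟶ ClSub.quotMod J) (hq : Function.Injective (q.app ⊤)) :
    Function.Injective (Scheme.IdealSheafData.inclusion hle).appTop := by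
  rw [injective_iff_map_eq_zero]
  intro t ht
  refine hq ?_
  rw [map_zero]
  refine TopCat.Sheaf.eq_of_locally_eq' ⟨(ClSub.quotMod J).presheaf, (ClSub.quotMod J).isSheaf⟩
    (fun U : X.affineOpens => U.1) ⊤ (fun U => homOfLE le_top)
    (fun x _ => by
      obtain ⟨U, hU, hxU, -⟩ := Opens.isBasis_iff_nbhd.mp X.isBasis_affineOpens (Opens.mem_top x)
      exact Opens.mem_iSup.mpr ⟨⟨U, hU⟩, hxU⟩) _ _ fun U => ?_
  obtain ⟨s, hs⟩ := CurvLib.unitToPush_app_surjective J'.subschemeι U.2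
    ((ClSub.quotMod J').presheaf.map (homOfLE (le_top : U.1 ≤ ⊤)).op t)
  have key : q.app U.1 ((ClSub.toSubscheme J').app U.1 s) =
      (J.subschemeι.app U.1).hom s *
        (show Γ(J.subscheme, J.subschemeι ⁻¹ᵁ U.1) from q.app U.1 ((ClSub.toSubscheme J').app U.1 (1 : Γ(X, U.1)))) := by
    have h1 := ((ClSub.toSubscheme J') ≫ q).app_smul (U := U.1) s (1 : Γ(X, U.1))
    rw [smul_eq_mul, mul_one] at h1
    exact h1
  have hz : (J.subschemeι.app U.1).hom s = 0 := res_app_eq_zero hle U.1 s t ht hs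
  rw [map_zero]
  refine ((NatTrans.naturality_apply q.mapPresheaf (homOfLE (le_top : U.1 ≤ ⊤)).op t).symm.trans ?_)
  rw [← hs]
  exact key.trans (by rw [hz, zero_mul])

theorem e0_map {X : Scheme.{u}} {M N : X.Modules} (f : M ⟶ N) (x : Coh.HH X M 0) :
    DegPullLib.e0 N (Sheaf.H.map ((QCohLib.toAbF X).map f) 0 x) = f.app ⊤ (DegPullLib.e0 M x) :=
  (congrArg (QCohLib.h0 (U := (⊤ : Opens X.toTopCat))) (QCohLib.hEquiv_map ((QCohLib.toAbF X).map f) 0 x)).trans
    (QCohLib.h0_comp _ _)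

theorem isField_of_injective {A K : Type u} [CommRing A] [CommRing K] (φ : A →+* K) (hφ : Function.Injective φ)
    (hK : IsField K) {R : Type u} [CommRing R] [Algebra R A] (hA : Module.length R A ≠ ⊤) : IsField A := by
  letI := hK.toField
  haveI : IsDomain A := hφ.isDomain φ
  haveI : IsArtinian R A := (isFiniteLength_iff_isNoetherian_isArtinian.1 (Module.length_ne_top_iff.1 hA)).2
  haveI : IsArtinianRing A := isArtinian_of_tower R inferInstance
  exact IsArtinianRing.isField_of_isDomain A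

variable {R : Type u} [CommRing R] [IsDomain R] [IsDiscreteValuationRing R]
  {X : Over (Spec (CommRingCat.of R))} [IsProper X.hom]

theorem glen_ne_top {I : X.left.IdealSheafData} (h : Fin1 R (ClSub.quotMod I)) :
    VertIntLib.glen (I.subschemeι ≫ X.hom) ≠ ⊤ := by
  have := VertIntLib.length_hhQuot (A := R) I
  exact fun h' => h.1 0 (this.trans h')

theorem length_ne_top {I : X.left.IdealSheafData} (h : Fin1 R (ClSub.quotMod I)) :
    letI := (VertIntLib.gρ (I.subschemeι ≫ X.hom)).toAlgebra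
    Module.length R Γ(I.subscheme, ⊤) ≠ ⊤ := by
  letI := (VertIntLib.gρ (I.subschemeι ≫ X.hom)).toAlgebra
  have em : (Algebra.toModule : Module R Γ(I.subscheme, ⊤)) = VertIntLib.gmod (I.subschemeι ≫ X.hom) :=
    Module.ext (funext fun r => funext fun x => rfl)
  have hA := glen_ne_top h
  rw [VertIntLib.glen, ← em] at hA
  exact hA

/-- Functions on a divisor whose ring of functions is finite over `R`. -/
theorem finite_gρ {I : X.left.IdealSheafData} (h : Fin1 R (ClSub.quotMod I)) :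
    (VertIntLib.gρ (I.subschemeι ≫ X.hom)).Finite := by
  letI := (VertIntLib.gρ (I.subschemeι ≫ X.hom)).toAlgebra
  haveI : IsNoetherian R Γ(I.subscheme, ⊤) :=
    (isFiniteLength_iff_isNoetherian_isArtinian.1 (Module.length_ne_top_iff.1 (length_ne_top h))).1
  exact RingHom.finite_algebraMap.2 inferInstance

/-- A divisor obtained from one with a field of functions. -/
theorem isField_step [IsLocallyNoetherian X.left] (Γ₀ : ArSurf.VertComp R X) {I : X.left.IdealSheafData}
    (hI : BlowUp.IsEffCartierIdeal I) (hΓ₀ : BlowUp.IsEffCartierIdeal Γ₀.ι.ker)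
    (hdeg : VertIntLib.dId Γ₀ I < 0) (hK : IsField Γ(I.subscheme, ⊤))
    (hfin : Fin1 R (ClSub.quotMod (I * Γ₀.ι.ker))) : IsField Γ((I * Γ₀.ι.ker).subscheme, ⊤) := by
  obtain ⟨S, hS, ⟨e1⟩, ⟨e2⟩, ⟨e3⟩⟩ := SurfAmpleLib.exists_quotSeq hI hΓ₀
  have hinv := IntMultLib.isInvertible_idealMod _ hI
  haveI := VertIntLib.isProper_curve Γ₀
  obtain ⟨e⟩ := nonempty_tensor_quot Γ₀ hinv
  have hpb := AmpleDevLib.isInvertible_pb Γ₀.ι hinv
  have h0 : Subsingleton (Coh.HH Γ₀.curve.left (pb Γ₀.ι (ClSub.idealMod I)) 0) :=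
    subsingleton_h0_of_deg_neg (k := IsLocalRing.ResidueField R) Γ₀.dim_eq hpb hdeg
  haveI hsub : Subsingleton (Coh.HH X.left S.X₁ 0) := by
    rw [← Module.length_eq_zero_iff (R := R), length_iso (A := R) (e1 ≪≫ e) 0,
      len_push Γ₀ _ (CurvLib.isCoh_of_isInvertible hpb), Module.finrank_zero_of_subsingleton, Nat.cast_zero]
  let q : ClSub.quotMod (I * Γ₀.ι.ker) ⟶ ClSub.quotMod I := e2.inv ≫ S.g ≫ e3.hom
  have hg : Function.Injective (Sheaf.H.map ((QCohLib.toAbF X.left).map S.g) 0) := by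
    intro a b hab
    obtain ⟨c, hc⟩ := AtlasCoh.hExact₂ (QCohLib.toAbF_shortExact hS) 0 (a - b) (by
      show (AtlasCoh.hLin X.hom S.g 0) (a - b) = 0
      rw [map_sub, sub_eq_zero]
      exact hab)
    rw [@Subsingleton.elim _ hsub c 0] at hc
    refine sub_eq_zero.1 (hc.symm.trans ?_)
    exact map_zero (AtlasCoh.hLin X.hom S.f 0)
  have hq : Function.Injective (q.app ⊤) := by
    have h2 : Function.Injective (S.g.app ⊤) := fun a b hab => by
      refine (DegPullLib.e0 S.X₂).symm.injective (hg ((DegPullLib.e0 S.X₃).injective ?_))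
      rw [e0_map, e0_map, AddEquiv.apply_symm_apply, AddEquiv.apply_symm_apply]
      exact hab
    show Function.Injective ((e2.inv ≫ S.g ≫ e3.hom).app ⊤)
    simp only [Scheme.Modules.Hom.comp_app, AddCommGrpCat.hom_comp, AddMonoidHom.coe_comp]
    exact (ConcreteCategory.bijective_of_isIso (e3.hom.app ⊤)).1.comp
      (h2.comp (ConcreteCategory.bijective_of_isIso (e2.inv.app ⊤)).1)
  have hle : I * Γ₀.ι.ker ≤ I := fun U => by
    rw [Scheme.IdealSheafData.ideal_mul]; exact Ideal.mul_le_left (I := I.ideal U) (J := (Γ₀.ι.ker).ideal U)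
  letI := (VertIntLib.gρ ((I * Γ₀.ι.ker).subschemeι ≫ X.hom)).toAlgebra
  exact isField_of_injective (Scheme.IdealSheafData.inclusion hle).appTop.hom
    (inclusion_injective hle q hq) hK (R := R) (length_ne_top hfin)

/-- A single curve. -/
theorem isField_curve [IsLocallyNoetherian X.left] (Γ₀ : ArSurf.VertComp R X) (hfin : Fin1 R (ClSub.quotMod Γ₀.ι.ker)) :
    IsField Γ(Γ₀.ι.ker.subscheme, ⊤) := by
  let e : Γ(Γ₀.ι.ker.subscheme, ⊤) ≃+* Γ(Γ₀.curve.left, ⊤) :=
    (asIso Γ₀.ι.toImage.appTop).commRingCatIsoToRingEquiv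
  haveI : IsDomain Γ(Γ₀.ι.ker.subscheme, ⊤) := e.toMulEquiv.isDomain _
  letI := (VertIntLib.gρ (Γ₀.ι.ker.subschemeι ≫ X.hom)).toAlgebra
  haveI : IsArtinian R Γ(Γ₀.ι.ker.subscheme, ⊤) :=
    (isFiniteLength_iff_isNoetherian_isArtinian.1 (Module.length_ne_top_iff.1 (length_ne_top hfin))).2
  haveI : IsArtinianRing Γ(Γ₀.ι.ker.subscheme, ⊤) := isArtinian_of_tower R inferInstance
  exact IsArtinianRing.isField_of_isDomain _

end VertChiLib
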