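import Groth.Agent.VertChiLib.Lift
import Groth.Agent.PicH1Lib.SqLES
import Groth.Agent.HilbPolyLib.Twist
import Groth.Agent.PicPnLib.Rel
import Groth.Agent.AmpleThLib.Pow
import Groth.Agent.MiscFlat6.InvDual
import Mathlib

/-!
# Torsion line bundles trivial on a square zero thickening
-/

set_option autoImplicit false
set_option backward.isDefEq.respectTransparency false
set_option linter.style.haveILetI false
universe u
open AlgebraicGeometry CategoryTheory CategoryTheory.Limits TopologicalSpace Polynomial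

noncomputable section

namespace VertChiLib

/-- The group law on invertible classes. -/
@[reducible] def picLaw (Y : Scheme.{u}) : PicGrp.Law Y :=
  let mul : PicLoc.PicSet Y → PicLoc.PicSet Y → PicLoc.PicSet Y := fun a b =>
    ⟨PicGrp.mulCl a.1 b.1, by
      obtain ⟨L, hL, rfl⟩ := PicGrp.exists_eq_cls a
      obtain ⟨M, hM, rfl⟩ := PicGrp.exists_eq_cls b
      exact ⟨CohB1.tensorMod L M, (PicGrp.mulCl_cl L M).symm, HilbPolyLib.isInvertible_tensor hL hM⟩⟩
  have hinv : ∀ a : PicLoc.PicSet Y, ∃ b, mul b a = PicLoc.unitPicSet Y := fun a => by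
    obtain ⟨L, hL, rfl⟩ := PicGrp.exists_eq_cls a
    obtain ⟨e⟩ := MiscFlat6.nonempty_dualIso hL
    refine ⟨PicGrp.cls _ (MiscFlat6.dual_isInvertible hL), Subtype.ext ?_⟩
    exact (PicGrp.mulCl_cl _ _).trans ((PicGrp.cl_eq_cl_iff _ _).2 ⟨HilbPolyLib.swapIso _ _ ≪≫ e⟩)
  { mul := mul
    one := PicLoc.unitPicSet Y
    inv := fun a => (hinv a).choose
    mul_assoc := fun a b c => by
      obtain ⟨L, hL, rfl⟩ := PicGrp.exists_eq_cls a
      obtain ⟨M, hM, rfl⟩ := PicGrp.exists_eq_cls b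
      obtain ⟨N, hN, rfl⟩ := PicGrp.exists_eq_cls c
      exact Subtype.ext ((PicGrp.cl_eq_cl_iff _ _).2 ⟨HilbPolyLib.assocIso L M N⟩)
    one_mul := fun a => by
      obtain ⟨L, hL, rfl⟩ := PicGrp.exists_eq_cls a
      exact Subtype.ext ((PicGrp.cl_eq_cl_iff _ _).2 ⟨HilbPolyLib.unitLeft L⟩)
    mul_one := fun a => by
      obtain ⟨L, hL, rfl⟩ := PicGrp.exists_eq_cls a
      exact Subtype.ext ((PicGrp.cl_eq_cl_iff _ _).2 ⟨HilbPolyLib.swapIso _ _ ≪≫ HilbPolyLib.unitLeft L⟩)
    inv_mul_cancel := fun a => (hinv a).choose_spec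
    mul_comm := fun a b => by
      obtain ⟨L, hL, rfl⟩ := PicGrp.exists_eq_cls a
      obtain ⟨M, hM, rfl⟩ := PicGrp.exists_eq_cls b
      exact Subtype.ext ((PicGrp.cl_eq_cl_iff _ _).2 ⟨HilbPolyLib.swapIso L M⟩)
    mul_val := fun _ _ => rfl
    one_eq := rfl }

theorem pullMul {Z W : Scheme.{u}} (g : Z ⟶ W) : PicGrp.PullMul g := by
  rintro c d ⟨L, rfl, hL⟩ ⟨M, rfl, hM⟩
  exact (PicGrp.cl_eq_cl_iff _ _).2 ⟨PicPnLib.pullTens g L M⟩

/-- A torsion class killed by restriction to a square zero thickening is trivial. -/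
theorem trivial_of_sq_zero {W : Scheme.{u}} (I : W.IdealSheafData) (hI : I * I = ⊥) (h : ℕ)
    (hu : IsUnit (h : Γ(W, ⊤)))
    (hyp : (∃ q : ℕ, Nat.Coprime q h ∧ (q : Γ(W, ⊤)) = 0) ∨
      ∀ u : (Γ(I.subscheme, ⊤))ˣ, ∃ (v : (Γ(I.subscheme, ⊤))ˣ) (b : (Γ(W, ⊤))ˣ),
        u = v ^ h * PicH1Lib.resUnits I b)
    {M : W.Modules} (hM : PicF.IsInvertible M)
    (htors : Nonempty (CohB1.tensorPow M h ≅ Coh.structureModule W))
    (htriv : Nonempty ((Scheme.Modules.pullback I.subschemeι).obj M ≅ Coh.structureModule I.subscheme)) :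
    Nonempty (M ≅ Coh.structureModule W) := by
  letI := picLaw W
  letI := picLaw I.subscheme
  have hi := pullMul I.subschemeι
  rw [← PicGrp.cls_eq_one_iff hM]
  have hc : PicGrp.cls M hM ∈ (PicGrp.pullHom I.subschemeι hi).ker := by
    rw [MonoidHom.mem_ker, PicGrp.pullHom_cls, PicGrp.cls_eq_one_iff]
    exact htriv
  rw [PicH1Lib.ker_pullHom hI hi] at hc
  obtain ⟨x, hx⟩ := hc
  have hpow : x ^ h ∈ (PicH1Lib.delta₀ hI).range := by
    rw [← PicH1Lib.ker_alphaHom hI, MonoidHom.mem_ker, map_pow, hx,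
      show PicGrp.cls M hM ^ h = PicGrp.cls (CohB1.tensorPow M h) (AmpleThLib.tensorPow_isInvertible hM h) from
        Subtype.ext (PicGrp.cls_pow_val hM h), PicGrp.cls_eq_one_iff]
    exact htors
  letI : Module Γ(W, ⊤) (Coh.HH W (ClSub.idealMod I) 1) := Coh.moduleΓtop _ 1
  suffices hxr : x ∈ (PicH1Lib.delta₀ hI).range by
    rw [← PicH1Lib.ker_alphaHom hI, MonoidHom.mem_ker] at hxr
    exact hx.symm.trans hxr
  rcases hyp with ⟨q, hq, hq0⟩ | hdiv
  · have h1 : x ^ q = 1 := by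
      refine Multiplicative.toAdd.injective ?_
      rw [toAdd_pow, toAdd_one, ← Nat.cast_smul_eq_nsmul Γ(W, ⊤) q, hq0, zero_smul]
    have h2 : x = (x ^ h) ^ (Nat.gcdA h q) := by
      conv_lhs => rw [← zpow_one x, show (1 : ℤ) = (h : ℤ) * Nat.gcdA h q + q * Nat.gcdB h q by
        rw [← Nat.gcd_eq_gcd_ab, Nat.Coprime.gcd_eq_one (Nat.Coprime.symm hq), Nat.cast_one]]
      rw [zpow_add, zpow_mul, zpow_mul, zpow_natCast, zpow_natCast, h1, one_zpow, mul_one]
    rw [h2]
    exact zpow_mem hpow _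
  · obtain ⟨u, hu'⟩ := hpow
    obtain ⟨v, b, rfl⟩ := hdiv u
    have hb : PicH1Lib.delta₀ hI (PicH1Lib.resUnits I b) = 1 := by
      rw [← MonoidHom.mem_ker, PicH1Lib.ker_delta₀ hI]
      exact ⟨b, rfl⟩
    rw [map_mul, hb, mul_one, map_pow] at hu'
    refine ⟨v, Multiplicative.toAdd.injective (hu.smul_left_cancel.1 ?_)⟩
    rw [Nat.cast_smul_eq_nsmul, Nat.cast_smul_eq_nsmul, ← toAdd_pow, ← toAdd_pow, hu']

/-- A section vanishing on a scheme with the same points is nilpotent. -/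
theorem isNilpotent_top {Z W : Scheme.{u}} (i : Z ⟶ W) [CompactSpace W] (hi : Function.Surjective i.base)
    (s : Γ(W, ⊤)) (hs : i.appTop.hom s = 0) : IsNilpotent s := by
  have h : W.basicOpen s = ⊥ := by
    refine Opens.ext (Set.eq_empty_of_forall_notMem fun w hw => ?_)
    obtain ⟨z, rfl⟩ := hi w
    have : z ∈ i ⁻¹ᵁ W.basicOpen s := hw
    rw [Scheme.preimage_basicOpen] at this
    change z ∈ Z.basicOpen (i.appTop.hom s) at this
    rw [hs, Scheme.basicOpen_zero] at this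
    exact this
  exact (Scheme.isNilpotent_iff_basicOpen_eq_bot_of_isCompact isCompact_univ s).2 h

/-- Units which are, on the points, simple roots of equations over `A`, lift up to `h`-th powers. -/
theorem units_div {A : Type u} [CommRing A] {Y Z W : Scheme.{u}} [CompactSpace Z] (j : Y ⟶ Z)
    (hj : Function.Surjective j.base) (i : Z ⟶ W) [IsClosedImmersion i] (hi : Function.Surjective i.base)
    (ρ : A →+* Γ(W, ⊤)) (h : ℕ) (hh : IsUnit (h : Γ(W, ⊤)))
    (hY : ∀ a : Γ(Y, ⊤), ∃ P : A[X], P.eval₂ (j.appTop.hom.comp (i.appTop.hom.comp ρ)) a = 0 ∧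
      IsUnit (P.derivative.eval₂ (j.appTop.hom.comp (i.appTop.hom.comp ρ)) a))
    (u : (Γ(Z, ⊤))ˣ) : ∃ (v : (Γ(Z, ⊤))ˣ) (b : (Γ(W, ⊤))ˣ), u = v ^ h * Units.map i.appTop.hom.toMonoidHom b := by
  obtain ⟨P, h0, h1⟩ := hY (j.appTop.hom u.1)
  letI := (i.appTop.hom.comp ρ).toAlgebra
  have hn : IsNilpotent (aeval u.1 P) := by
    refine isNilpotent_top j hj _ ?_
    rw [aeval_def, RingHom.algebraMap_toAlgebra, hom_eval₂, h0]
  have hd : IsUnit (aeval u.1 (derivative P)) := by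
    refine isUnit_of_app_isUnit j hj _ ?_
    rw [aeval_def, RingHom.algebraMap_toAlgebra]
    show IsUnit (j.appTop.hom _)
    rw [hom_eval₂]
    exact h1
  obtain ⟨c, ⟨hc1, hc2⟩, -⟩ := existsUnique_nilpotent_sub_and_aeval_eq_zero hn hd
  have hcu : IsUnit c := by
    have := hc1.neg.isUnit_add_left_of_commute u.isUnit (Commute.all _ _)
    rwa [neg_sub, add_sub_cancel] at this
  have hc' : P.eval₂ (i.appTop.hom.comp ρ) c = 0 := by
    rwa [aeval_def, RingHom.algebraMap_toAlgebra] at hc2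
  have hcd : IsUnit (P.derivative.eval₂ (i.appTop.hom.comp ρ) c) := by
    have h2 := isNilpotent_aeval_sub_of_isNilpotent_sub (R := A) (derivative P) hc1
    have h3 := h2.neg.isUnit_add_left_of_commute hd (Commute.all _ _)
    rw [neg_sub, add_sub_cancel] at h3
    rwa [aeval_def, RingHom.algebraMap_toAlgebra] at h3
  obtain ⟨b, hb⟩ := exists_lift_root i hi ρ P c hc' hcd
  have hbu : IsUnit b := isUnit_of_app_isUnit i hi b (by
    show IsUnit (i.appTop.hom b)
    rw [hb]; exact hcu)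
  -- the remaining factor is unipotent
  let w : Γ(Z, ⊤) := u.1 * ↑hcu.unit⁻¹
  have hhZ : IsUnit (h : Γ(Z, ⊤)) := by
    have := hh.map i.appTop.hom
    rwa [map_natCast] at this
  have hw0 : IsNilpotent (aeval (1 : Γ(Z, ⊤)) (X ^ h - C w : Γ(Z, ⊤)[X])) := by
    have e : aeval (1 : Γ(Z, ⊤)) (X ^ h - C w : Γ(Z, ⊤)[X]) = -((u.1 - c) * ↑hcu.unit⁻¹) := by
      simp only [map_sub, map_pow, aeval_X, aeval_C, one_pow, Algebra.algebraMap_self, RingHom.id_apply, w,
        sub_mul, IsUnit.mul_val_inv, neg_sub]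
    rw [e]
    exact ((Commute.all _ _).isNilpotent_mul_right hc1).neg
  have hw1 : IsUnit (aeval (1 : Γ(Z, ⊤)) (derivative (X ^ h - C w : Γ(Z, ⊤)[X]))) := by
    simpa [derivative_X_pow] using hhZ
  obtain ⟨t, ⟨ht1, ht2⟩, -⟩ := existsUnique_nilpotent_sub_and_aeval_eq_zero hw0 hw1
  have htu : IsUnit t := by
    have := ht1.neg.isUnit_add_left_of_commute isUnit_one (Commute.all _ _)
    rwa [neg_sub, add_sub_cancel] at this
  have htw : t ^ h = w := by simpa [sub_eq_zero] using ht2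
  refine ⟨htu.unit, hbu.unit, Units.ext ?_⟩
  show u.1 = t ^ h * i.appTop.hom b
  rw [hb, htw]
  simp only [w, mul_assoc, IsUnit.val_inv_mul, mul_one]

/-- An element of a finite reduced algebra over a perfect field is a simple root. -/
theorem exists_simple_root_reduced {k A : Type u} [Field k] [PerfectField k] [CommRing A] [Algebra k A]
    [Module.Finite k A] [IsReduced A] (a : A) :
    aeval a (minpoly k a) = 0 ∧ IsUnit (aeval a (derivative (minpoly k a))) := by
  have hint : IsIntegral k a := Algebra.IsIntegral.isIntegral a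
  refine ⟨minpoly.aeval k a, ?_⟩
  have hsq : Squarefree (minpoly k a) := by
    intro d hd
    obtain ⟨e, he⟩ := hd
    have h0 : aeval a (d * e) = 0 := by
      refine IsReduced.eq_zero _ ⟨2, ?_⟩
      rw [← map_pow, show (d * e) ^ 2 = minpoly k a * e by rw [he]; ring, map_mul, minpoly.aeval, zero_mul]
    obtain ⟨g, hg⟩ := minpoly.dvd k a h0
    have hne : d * e ≠ 0 := fun hz => minpoly.ne_zero hint (by rw [he, mul_assoc, hz, mul_zero])
    exact IsUnit.of_mul_eq_one g (mul_left_cancel₀ hne (by rw [mul_one, ← mul_assoc]; linear_combination (-1 : k[X]) * hg + (-g) * he))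
  obtain ⟨p, q, hpq⟩ := (PerfectField.separable_iff_squarefree.2 hsq : (minpoly k a).Separable)
  refine IsUnit.of_mul_eq_one (aeval a q) ?_
  have := congrArg (aeval a) hpq
  rw [map_add, map_mul, map_mul, minpoly.aeval, mul_zero, zero_add, map_one] at this
  rw [mul_comm]
  exact this

end VertChiLib
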