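import Groth.Agent.VertChiLib.CompExists
import Groth.Agent.VertIntLib.Conn
import Groth.Agent.FibDimLib.SchemeInv
import Groth.Agent.FibDimLib.Local

/-!
# Components of the closed fibre of a model
-/

set_option autoImplicit false
set_option backward.isDefEq.respectTransparency false
set_option linter.style.haveILetI false
universe u
open AlgebraicGeometry CategoryTheory CategoryTheory.Limits TopologicalSpace IsLocalRing

noncomputable section

namespace VertChiLib

theorem fibreDimAt_generic {K : Type u} [Field K] {C : Scheme.{u}} (f : C ⟶ Spec (CommRingCat.of K))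
    [LocallyOfFiniteType f] [IrreducibleSpace C] :
    FlatMor.fibreDimAt f (genericPoint C) = topologicalKrullDim C := by
  let y := f (genericPoint C)
  have hs : Set.range (f.fiberι y) = Set.univ := by
    rw [f.range_fiberι]
    exact Set.eq_univ_of_forall fun c => Subsingleton.elim (α := PrimeSpectrum K) _ _
  let e := (f.fiberι y).isEmbedding
  obtain ⟨w, hw⟩ : genericPoint C ∈ Set.range (f.fiberι y) := hs ▸ Set.mem_univ _
  haveI : LocallyOfFiniteType (f.fiberToSpecResidueField y) := UOpenLib.lft_fiberToSpec f y
  let h : ↥(f.fiber y) ≃ₜ ↥C := e.toHomeomorph.trans ((Homeomorph.setCongr hs).trans (Homeomorph.Set.univ C))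
  have hwcl : closure ({w} : Set (f.fiber y)) = Set.univ := by
    rw [e.isInducing.closure_eq_preimage_closure_image, Set.image_singleton, hw, (genericPoint_spec C).def,
      Set.preimage_univ]
  have hmem : closure ({w} : Set (f.fiber y)) ∈ irreducibleComponents (f.fiber y : Type u) := by
    refine ⟨isIrreducible_singleton.closure, fun S _ _ => ?_⟩
    rw [hwcl]; exact Set.subset_univ S
  rw [← hw, FibDimLib.fibreDimAt_fiberι, FibDimLib.localDim_eq_of_generic (f.fiberToSpecResidueField y) hmem, hwcl]
  exact ((Homeomorph.Set.univ _).trans h).isHomeomorph.topologicalKrullDim_eq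

theorem exists_list_of_model {R : Type u} [CommRing R] [IsDomain R] [IsDiscreteValuationRing R]
    {C X : Scheme.{u}} {f : C ⟶ Spec (CommRingCat.of (FractionRing R))} {p : X ⟶ Spec (CommRingCat.of R)}
    (hC : Curve.IsSmoothProperCurve (FractionRing R) C f) (hX : Models.IsRegularProperModel R X p C f) :
    ∃ (n : ℕ) (Γ : Fin n → ArSurf.VertComp R (Over.mk p)), Models.IsComponentList R (Over.mk p) Γ := by
  obtain ⟨hMod, hp, hreg⟩ := hX
  haveI := hp
  haveI : IsIntegral (Over.mk p).left := VertIntLib.isIntegral_of_model hC hMod hreg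
  haveI : Flat (Over.mk p).hom := hMod.1
  haveI : IsProper (Over.mk p).hom := hp
  haveI : LocallyOfFiniteType (Over.mk p).hom := hMod.2.1
  haveI : CompactSpace (Over.mk p).left := QuasiCompact.compactSpace_of_compactSpace (Over.mk p).hom
  haveI : IsLocallyNoetherian (Over.mk p).left := LocallyOfFiniteType.isLocallyNoetherian (Over.mk p).hom
  obtain ⟨-, -, -, g, hg⟩ := hMod
  haveI : IsProper f := hC.1
  haveI : IsIntegral C := hC.2.2.1
  have hd : FlatMor.fibreDimAt (Over.mk p).hom (genericPoint (Over.mk p).left) = 1 := by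
    have h1 : FlatMor.fibreDimAt f (genericPoint C) = 1 := (fibreDimAt_generic f).trans hC.2.2.2
    rw [FibDimLib.fibreDimAt_baseChange hg (genericPoint C)] at h1
    have hgη : g (genericPoint C) = genericPoint (Over.mk p).left := by
      have hrange : Set.range g = {x | p x = RelMinSmLib.eta (R := R)} := by
        rw [← hg.isoPullback_hom_fst, Scheme.Hom.comp_base, TopCat.coe_comp,
          Set.range_comp, Set.range_eq_univ.2 hg.isoPullback.hom.surjective, Set.image_univ,
          Scheme.Pullback.range_fst, RelMinSmLib.range_genPt]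
        rfl
      haveI : Flat p := ‹Flat (Over.mk p).hom›
      obtain ⟨x', hx', hx'η⟩ := Flat.generalizingMap p (RelMinSmLib.eta_specializes (p (genericPoint (Over.mk p).left)))
      obtain ⟨c, rfl⟩ := hrange.ge hx'η
      exact (((((genericPoint_spec C).specializes trivial).map g.continuous).trans hx').antisymm
        ((genericPoint_spec (Over.mk p).left).specializes trivial)).eq
    rwa [hgη] at h1
  obtain ⟨z0, hz0⟩ : ∃ z, (Over.mk p).hom z = closedPoint R := by
    have hcl : IsClosed (Set.range (Over.mk p).hom) := (Over.mk p).hom.isClosedMap.isClosed_range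
    show closedPoint R ∈ Set.range (Over.mk p).hom
    rw [← hcl.closure_eq]
    have hs : (Over.mk p).hom (genericPoint (Over.mk p).left) ⤳ closedPoint R :=
      IsLocalRing.specializes_closedPoint (R := R) ((Over.mk p).hom (genericPoint (Over.mk p).left))
    exact closure_mono (Set.singleton_subset_iff.2 (Set.mem_range_self (f := (Over.mk p).hom) (genericPoint (Over.mk p).left)))
      (specializes_iff_mem_closure.1 hs)
  obtain ⟨T, hT, hzT, hmax⟩ := exists_preirreducible _
    (isIrreducible_singleton (x := (⟨z0, hz0⟩ : Models.specialFibreSet R (Over.mk p)))).isPreirreducible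
  have hmem : Subtype.val '' T ∈ Models.fibreComponents R (Over.mk p) := by
    refine ⟨⟨⟨⟨z0, _, hzT rfl, rfl⟩, hT.image _ continuous_subtype_val.continuousOn⟩, Subtype.coe_image_subset _ _⟩, ?_⟩
    rintro S ⟨hS, hSs⟩ hle
    have hT' := hmax (Subtype.val ⁻¹' S : Set (Models.specialFibreSet R (Over.mk p))) (VertIntLib.isPreirreducible_of_image Topology.IsInducing.subtypeVal (by
        rw [Subtype.image_preimage_coe, Set.inter_eq_right.2 hSs]; exact hS.isPreirreducible))
      (fun t ht => hle ⟨t, ht, rfl⟩)
    intro y hy
    exact ⟨⟨y, hSs hy⟩, hT'.le hy, rfl⟩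
  obtain ⟨z, hz, hzg, -⟩ := VertIntLib.exists_of_mem_fibreComponents hmem
  obtain ⟨Γ₀, hΓ₀⟩ := exists_vertComp_of_dim hz ((VertIntLib.dim_closure hz hzg).trans hd)
  refine VertIntLib.exists_componentList Γ₀ ?_
  have hg0 : Models.genPtOf R (Over.mk p) Γ₀ = z := by
    have h := hΓ₀
    rw [VertIntLib.range_eq_closure] at h
    exact IsGenericPoint.eq (S := closure ({z} : Set (Over.mk p).left)) h rfl
  rw [hg0]; exact hzg

end VertChiLib
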