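import Groth.Agent.VertChiLib.MinModel
import Groth.Agent.VertIntLib.Matrix
import Groth.Agent.AlgSpRegLib.ImageReduced
import Mathlib.AlgebraicGeometry.Artinian

/-!
Meeting components: the intersection as a finite scheme.
-/

set_option autoImplicit false

universe u

open CategoryTheory CategoryTheory.Limits AlgebraicGeometry TopologicalSpace IsLocalRing
open Models

set_option backward.isDefEq.respectTransparency false

namespace VertChiLib

variable {R : Type u} [CommRing R] [IsDomain R] [IsDiscreteValuationRing R]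
  {X : Over (Spec (CommRingCat.of R))}

/-- Two components meet in finitely many closed points. -/
theorem finite_inter_range [IsProper X.hom] {n : ℕ} {Γ : Fin n → ArSurf.VertComp R X}
    (hΓ : Models.IsComponentList R X Γ) {i j : Fin n} (hij : i ≠ j) :
    (Set.range (Γ i).ι.base ∩ Set.range (Γ j).ι.base).Finite ∧
      ∀ x ∈ Set.range (Γ i).ι.base ∩ Set.range (Γ j).ι.base, IsClosed ({x} : Set X.left) := by
  haveI := VertIntLib.isProper_curve (Γ i)
  haveI : IsLocallyNoetherian (Γ i).curve.left :=
    LocallyOfFiniteType.isLocallyNoetherian ((Γ i).curve.left ↘ Spec (CommRingCat.of (ResidueField R)))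
  haveI : CompactSpace ↥(Γ i).curve.left :=
    QuasiCompact.compactSpace_of_compactSpace ((Γ i).curve.left ↘ Spec (CommRingCat.of (ResidueField R)))
  haveI : IsNoetherian (Γ i).curve.left := {}
  have hC : IsClosed ((Γ i).ι.base ⁻¹' Set.range (Γ j).ι.base) :=
    (Γ j).ι.isClosedEmbedding.isClosed_range.preimage (Γ i).ι.continuous
  have hG : ∀ y ∈ (Γ i).ι.base ⁻¹' Set.range (Γ j).ι.base, ¬ FinPicLib.IsGen y := by
    intro y hy hgen
    have he := hgen _ ((genericPoint_spec (Γ i).curve.left).specializes trivial)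
    refine VertIntLib.genPt_not_mem_of_isFibGen (Γ i) (VertIntLib.isFibGen_of_list hΓ i) (Γ j)
      (fun h => hij (hΓ.1 h)) ?_
    show Models.genPtOf R X (Γ i) ∈ ((Γ j).ι.ker.support : Set X.left)
    rw [Scheme.Hom.support_ker, (Γ j).ι.isClosedEmbedding.isClosed_range.closure_eq, Models.genPtOf, he]
    exact hy
  refine ⟨?_, ?_⟩
  · refine ((FinPicLib.finite_of_closed (Γ i).dim_eq.le hC hG).image (Γ i).ι.base).subset ?_
    rintro _ ⟨⟨y, rfl⟩, h⟩
    exact ⟨y, h, rfl⟩
  · rintro _ ⟨⟨y, rfl⟩, h⟩
    rw [← Set.image_singleton]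
    refine (Γ i).ι.isClosedEmbedding.isClosedMap _ (isClosed_of_closure_subset fun z hz => ?_)
    exact (FinPicLib.eq_of_specializes_of_not_isGen (Γ i).dim_eq.le (hG y h)
      (specializes_iff_mem_closure.2 hz)).symm

/-- A finite subscheme of length one is a reduced rational point. -/
theorem point_of_len_one [IsProper X.hom] {I : X.left.IdealSheafData}
    (hfin : (I.support : Set X.left).Finite) (hcl : ∀ x ∈ (I.support : Set X.left), IsClosed ({x} : Set X.left))
    (hlen : Models.lengthH R X (ClSub.quotMod I) 0 = 1) :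
    ∃ x : X.left, (I.support : Set X.left) = {x} ∧
      I = Scheme.IdealSheafData.vanishingIdeal ⟨closure {x}, isClosed_closure⟩ ∧
      Function.Surjective ((X.left.residue x).hom.comp (Models.stalkHom R X x)) := by
  let Z : Scheme.{u} := I.subscheme
  haveI hfz : Finite ↥Z := by
    haveI := hfin.to_subtype
    exact Finite.of_injective (β := (I.support : Set X.left))
      (fun z => ⟨I.subschemeι z, I.range_subschemeι ▸ ⟨z, rfl⟩⟩)
      (fun a b h => I.subschemeι.isEmbedding.injective (congrArg Subtype.val h))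
  haveI : T1Space ↥Z := ⟨fun z => by
    have := (hcl (I.subschemeι z) (I.range_subschemeι ▸ ⟨z, rfl⟩)).preimage I.subschemeι.continuous
    rwa [← Set.image_singleton, Set.preimage_image_eq _ I.subschemeι.isEmbedding.injective] at this⟩
  haveI : DiscreteTopology ↥Z := inferInstance
  haveI : IsAffine Z := inferInstance
  let q : Z ⟶ Spec (CommRingCat.of R) := I.subschemeι ≫ X.hom
  letI := VertIntLib.gmod q
  have hl : Module.length R Γ(Z, ⊤) = 1 := by
    have h := hlen
    rw [Models.lengthH, VertIntLib.length_hhQuot (A := R) I] at h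
    exact (ENat.toNat_eq_iff one_ne_zero).1 h
  haveI : IsSimpleModule R Γ(Z, ⊤) := Module.length_eq_one_iff.1 hl
  haveI : Nontrivial Γ(Z, ⊤) := IsSimpleModule.nontrivial R _
  have hr1 : ∀ r : R, r • (1 : Γ(Z, ⊤)) = VertIntLib.gρ q r := fun r => mul_one _
  have hsurj : Function.Surjective (VertIntLib.gρ q) := fun s => by
    obtain ⟨r, hr⟩ := IsSimpleModule.toSpanSingleton_surjective R (one_ne_zero (α := Γ(Z, ⊤))) s
    exact ⟨r, (hr1 r).symm.trans hr⟩
  have hfield : IsField Γ(Z, ⊤) := by
    refine ⟨⟨0, 1, zero_ne_one⟩, mul_comm, fun {a} ha => ?_⟩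
    obtain ⟨r, hr⟩ := IsSimpleModule.toSpanSingleton_surjective R ha 1
    exact ⟨VertIntLib.gρ q r, (mul_comm _ _).trans hr⟩
  letI := hfield.toField
  haveI : AlgebraicGeometry.IsReduced Z := isReduced_of_isOpenImmersion Z.isoSpec.hom
  have hsub : Subsingleton ↥Z := ⟨fun a b => Z.isoSpec.hom.homeomorph.injective
    (Subsingleton.elim (α := PrimeSpectrum Γ(Z, ⊤)) _ _)⟩
  haveI : Nonempty ↥Z := by
    by_contra h
    rw [not_nonempty_iff] at h
    haveI : Subsingleton Γ(Z, ⊤) := by
      rw [show (⊤ : Z.Opens) = ⊥ from TopologicalSpace.Opens.ext (Set.ext fun z => h.elim z)]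
      exact CommRingCat.subsingleton_of_isTerminal Z.sheaf.isTerminalOfEmpty
    exact false_of_nontrivial_of_subsingleton Γ(Z, ⊤)
  obtain ⟨z⟩ := ‹Nonempty ↥Z›
  have hsupp : (I.support : Set X.left) = {I.subschemeι z} := by
    rw [← I.range_subschemeι]
    exact Set.eq_singleton_iff_unique_mem.2
      ⟨⟨z, rfl⟩, by rintro _ ⟨w, rfl⟩; rw [Subsingleton.elim w z]⟩
  refine ⟨I.subschemeι z, hsupp, ?_, ?_⟩
  · refine (AlgSpRegLib.eq_vanishingIdeal_support I).trans
      (congrArg Scheme.IdealSheafData.vanishingIdeal (TopologicalSpace.Closeds.ext ?_))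
    show (I.support : Set X.left) = closure {I.subschemeι z}
    rw [← hsupp, I.support.isClosed.closure_eq]
  · intro t
    obtain ⟨b, rfl⟩ := X.left.residue_surjective (I.subschemeι z) t
    obtain ⟨V, hzV, s, hs⟩ := Z.presheaf.exists_germ_eq ((I.subschemeι.stalkMap z).hom b)
    obtain rfl : V = ⊤ := TopologicalSpace.Opens.ext (Set.eq_univ_of_forall fun w => Subsingleton.elim z w ▸ hzV)
    obtain ⟨r, rfl⟩ := hsurj s
    refine ⟨r, (sub_eq_zero.1 ?_).symm⟩
    show (X.left.residue _).hom b - (X.left.residue _).hom (Models.stalkHom R X (I.subschemeι z) r) = 0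
    rw [← map_sub]
    refine (residue_eq_zero_iff _).2 (mem_maximalIdeal _ |>.2 fun hu => ?_)
    have h0 : (I.subschemeι.stalkMap z).hom (b - Models.stalkHom R X (I.subschemeι z) r) = 0 := by
      rw [map_sub, ← hs, sub_eq_zero]
      show Z.presheaf.germ ⊤ z trivial (VertIntLib.gρ q r) = _
      rw [VertIntLib.gρ_comp]
      exact (Scheme.Hom.germ_stalkMap_apply I.subschemeι ⊤ z trivial _).symm
    have := hu.map (I.subschemeι.stalkMap z).hom
    rw [h0] at this
    exact not_isUnit_zero this

end VertChiLib
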