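import Groth.Agent.VertIntLib.Degree

/-!
# Dimensions of cohomology on an integral curve are multiples of the degree of the field of constants
-/

set_option autoImplicit false
set_option backward.isDefEq.respectTransparency false
set_option linter.style.haveILetI false
set_option linter.unusedSectionVars false
universe u
open AlgebraicGeometry CategoryTheory CategoryTheory.Limits TopologicalSpace

noncomputable section

namespace VertChiLib

variable {k : Type u} [Field k] {Y : Scheme.{u}} [Y.Over (Spec (CommRingCat.of k))]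
  [IsProper (Y ↘ Spec (CommRingCat.of k))] [IsIntegral Y]

/-- The dimension of the constants. -/
def w (k : Type u) [Field k] (Y : Scheme.{u}) [Y.Over (Spec (CommRingCat.of k))] : ℕ :=
  Module.finrank k (Coh.HH Y (Coh.structureModule Y) 0)

theorem w_pos_and_dvd : 0 < w k Y ∧ ∀ (M : Y.Modules) (j : ℕ), w k Y ∣ Module.finrank k (Coh.HH Y M j) := by
  let ρ : k →+* Γ(Y, ⊤) := Coh.toGlobal (Y ↘ Spec (CommRingCat.of k))
  letI : Algebra k Γ(Y, ⊤) := ρ.toAlgebra
  let e : Coh.HH Y (Coh.structureModule Y) 0 ≃ₗ[k] Γ(Y, ⊤) :=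
    { (show Coh.HH Y (Coh.structureModule Y) 0 ≃+ Γ(Y, ⊤) from DegPullLib.e0 (Coh.structureModule Y)) with
      map_smul' := fun r x => DegPullLib.e0_smul (Coh.structureModule Y) _ x }
  haveI : Module.Finite k (Coh.HH Y (Coh.structureModule Y) 0) :=
    CurvLib.finite_HH (k := k) (DevissLib.isCoh_structureModule _) 0
  haveI : Module.Finite k Γ(Y, ⊤) := Module.Finite.equiv e
  haveI : IsArtinianRing Γ(Y, ⊤) := isArtinian_of_tower k inferInstance
  letI : Field Γ(Y, ⊤) := (IsArtinianRing.isField_of_isDomain _).toField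
  have hw : w k Y = Module.finrank k Γ(Y, ⊤) := e.finrank_eq
  refine ⟨hw ▸ Module.finrank_pos, fun M j => ?_⟩
  letI : Module Γ(Y, ⊤) (Coh.HH Y M j) := Coh.moduleΓtop M j
  haveI : IsScalarTower k Γ(Y, ⊤) (Coh.HH Y M j) := IsScalarTower.of_algebraMap_smul fun r x => rfl
  exact ⟨Module.finrank Γ(Y, ⊤) (Coh.HH Y M j), by rw [hw, Module.finrank_mul_finrank]⟩

theorem w_dvd_euler (hd : topologicalKrullDim Y ≤ ((1 : ℕ) : WithBot ℕ∞)) (M : Y.Modules) :
    (w k Y : ℤ) ∣ Curv2.euler k Y M := by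
  haveI := CurvLib.isNoetherian k (X := Y)
  rw [CurvLib.euler_eq_sub fun j hj => CurvLib.subsingleton_HH_of_dim_le M (d := 1) hd j (by omega)]
  exact Dvd.dvd.sub (Int.natCast_dvd_natCast.2 (w_pos_and_dvd.2 M 0)) (Int.natCast_dvd_natCast.2 (w_pos_and_dvd.2 M 1))

theorem dvd_inter {R : Type u} [CommRing R] [IsDomain R] [IsDiscreteValuationRing R]
    {X : Over (Spec (CommRingCat.of R))} [IsProper X.hom] (Γ : ArSurf.VertComp R X) :
    0 < Models.wdeg R X Γ ∧ Models.wdeg R X Γ ∣ Models.h1 R X Γ ∧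
      ∀ M : X.left.Modules, (Models.wdeg R X Γ : ℤ) ∣ ArSurf.inter R X M Γ := by
  haveI := VertIntLib.isProper_curve Γ
  obtain ⟨h1, h2⟩ := w_pos_and_dvd (k := IsLocalRing.ResidueField R) (Y := Γ.curve.left)
  refine ⟨h1, h2 _ 1, fun M => ?_⟩
  rw [VertIntLib.inter_eq_deg, Curv2.deg, Nat.cast_one, one_mul]
  exact Dvd.dvd.sub (w_dvd_euler Γ.dim_eq.le _) (w_dvd_euler Γ.dim_eq.le _)

end VertChiLib
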