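import Groth.Agent.VertChiLib.Lift
import Groth.Agent.VertChiLib.Field
import Groth.Agent.VertIntLib.Comp

/-!
# Cohomological flatness in degree zero
-/

set_option autoImplicit false
set_option backward.isDefEq.respectTransparency false
set_option linter.style.haveILetI false
set_option linter.unusedSectionVars false
set_option maxHeartbeats 800000
universe u
open AlgebraicGeometry CategoryTheory CategoryTheory.Limits TopologicalSpace IsLocalRing Opposite

noncomputable section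

namespace VertChiLib

theorem hδ_natural' {Y : Scheme.{u}} {T T' : ShortComplex (QCohLib.AbSh Y.toTopCat)} (hT : T.ShortExact)
    (hT' : T'.ShortExact) (φ : T ⟶ T') (p : ℕ) (x : Sheaf.H T.X₃ p) :
    AtlasCoh.hδ hT' p (Sheaf.H.map φ.τ₃ p x) = Sheaf.H.map φ.τ₁ (p + 1) (AtlasCoh.hδ hT p x) := by
  show (Abelian.Ext.comp x (Abelian.Ext.mk₀ φ.τ₃) (add_zero p)).comp hT'.extClass rfl =
    (Abelian.Ext.comp x hT.extClass rfl).comp (Abelian.Ext.mk₀ φ.τ₁) (add_zero (p + 1))
  rw [Abelian.Ext.comp_assoc_of_second_deg_zero, ← ShortComplex.ShortExact.extClass_naturality hT hT' φ,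
    Abelian.Ext.comp_assoc_of_third_deg_zero]

theorem app_eq_res {X : Scheme.{u}} {J' J : X.IdealSheafData} (hle : J' ≤ J) (U : X.Opens) (s : Γ(X, U))
    (t : Γ(J'.subscheme, ⊤))
    (hs : (J'.subschemeι.app U).hom s = (J'.subscheme.presheaf.map (homOfLE (le_top : J'.subschemeι ⁻¹ᵁ U ≤ ⊤)).op).hom t) :
    (J.subschemeι.app U).hom s = (J.subscheme.presheaf.map (homOfLE (le_top : J.subschemeι ⁻¹ᵁ U ≤ ⊤)).op).hom
      ((Scheme.IdealSheafData.inclusion hle).appTop.hom t) := by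
  let i := Scheme.IdealSheafData.inclusion hle
  have hi : i ≫ J'.subschemeι = J.subschemeι := Scheme.IdealSheafData.inclusion_subschemeι hle
  have e : J.subschemeι ⁻¹ᵁ U ≤ i ⁻¹ᵁ (J'.subschemeι ⁻¹ᵁ U) := by rw [← hi]; exact le_rfl
  have h1 : J.subschemeι.appLE U (J.subschemeι ⁻¹ᵁ U) le_rfl =
      J'.subschemeι.app U ≫ i.appLE (J'.subschemeι ⁻¹ᵁ U) (J.subschemeι ⁻¹ᵁ U) e := by
    rw [Scheme.Hom.app_eq_appLE, Scheme.Hom.appLE_comp_appLE]
    simp only [← hi]
  have h2 : (J'.subscheme.presheaf.map (homOfLE (le_top : J'.subschemeι ⁻¹ᵁ U ≤ ⊤)).op) ≫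
      i.appLE (J'.subschemeι ⁻¹ᵁ U) (J.subschemeι ⁻¹ᵁ U) e =
      i.appTop ≫ J.subscheme.presheaf.map (homOfLE (le_top : J.subschemeι ⁻¹ᵁ U ≤ i ⁻¹ᵁ ⊤)).op := by
    rw [Scheme.Hom.map_appLE]
    rfl
  rw [Scheme.Hom.app_eq_appLE, h1, CommRingCat.comp_apply, hs, ← CommRingCat.comp_apply, h2, CommRingCat.comp_apply]

variable {R : Type u} [CommRing R] [IsDomain R] [IsDiscreteValuationRing R]
  {X : Over (Spec (CommRingCat.of R))} [IsIntegral X.left] [Flat X.hom] [IsProper X.hom]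
  {ϖ : R} (hϖ : maximalIdeal R = Ideal.span {ϖ})

/-- The uniformiser as a function. -/
def fn (X : Over (Spec (CommRingCat.of R))) (r : R) : Γ(X.left, ⊤) := VertIntLib.gρ X.hom r

/-- The `n`-th infinitesimal neighbourhood `(ϖ^n)`. -/
def thick (X : Over (Spec (CommRingCat.of R))) (ϖ : R) (n : ℕ) : X.left.IdealSheafData :=
  Scheme.IdealSheafData.ofIdealTop (Ideal.span {fn X (ϖ ^ n)})

theorem thick_ideal (n : ℕ) (U : X.left.affineOpens) :
    (thick X ϖ n).ideal U =
      Ideal.span {(X.left.presheaf.map (homOfLE (le_top : U.1 ≤ ⊤)).op).hom (fn X (ϖ ^ n))} := by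
  rw [thick, Scheme.IdealSheafData.ofIdealTop_ideal, Ideal.map_span, Set.image_singleton]

include hϖ in
theorem thick_one : thick X ϖ 1 = Models.specialFibreIdeal R X := by
  have H : ∀ x, IntMult.stalkIdeal (thick X ϖ 1) x = IntMult.stalkIdeal (Models.specialFibreIdeal R X) x := fun x => by
    obtain ⟨U, hU, hxU, -⟩ := exists_isAffineOpen_mem_and_subset (X := X.left) (x := x) (U := ⊤) trivial
    rw [VertIntLib.stalkIdeal_fibre x hϖ, SDivLib.stalkIdeal_eq _ ⟨U, hU⟩ hxU, thick_ideal, Ideal.map_span,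
      Set.image_singleton, pow_one]
    exact congrArg (fun t => Ideal.span {t}) (TopCat.Presheaf.germ_res_apply X.left.presheaf _ x hxU _)
  exact le_antisymm (SDivLib.le_of_stalk fun x => (H x).le) (SDivLib.le_of_stalk fun x => (H x).ge)

theorem thick_le (n : ℕ) : thick X ϖ (n + 1) ≤ thick X ϖ 1 := fun U => by
  rw [thick_ideal, thick_ideal, Ideal.span_singleton_le_iff_mem, Ideal.mem_span_singleton]
  exact map_dvd _ (map_dvd _ (pow_dvd_pow ϖ (by omega)))

theorem mem_support_thick (n : ℕ) (hn : 0 < n) (x : X.left) :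
    x ∈ ((thick X ϖ n).support : Set X.left) ↔ x ∉ X.left.basicOpen (fn X ϖ) := by
  unfold thick
  rw [Scheme.IdealSheafData.coe_support_ofIdealTop, Scheme.zeroLocus_span, Scheme.mem_zeroLocus_iff]
  simp only [Set.mem_singleton_iff, forall_eq]
  have e : fn X (ϖ ^ n) = fn X ϖ ^ n := map_pow (VertIntLib.gρ X.hom) ϖ n
  rw [e]
  exact (iff_of_eq (congrArg (fun O : X.left.Opens => x ∈ O)
    (RingedSpace.basicOpen_pow _ (fn X ϖ) n hn))).not

theorem surjective_inclusion (n : ℕ) :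
    Function.Surjective (Scheme.IdealSheafData.inclusion (thick_le (X := X) (ϖ := ϖ) n)).base := by
  intro w
  have hw : (thick X ϖ (n + 1)).subschemeι.base w ∈ ((thick X ϖ 1).support : Set X.left) := by
    rw [mem_support_thick 1 one_pos, ← mem_support_thick (n + 1) n.succ_pos]
    exact (thick X ϖ (n + 1)).range_subschemeι ▸ Set.mem_range_self w
  rw [← (thick X ϖ 1).range_subschemeι] at hw
  obtain ⟨z, hz⟩ := hw
  refine ⟨z, (thick X ϖ (n + 1)).subschemeι.isClosedEmbedding.injective ?_⟩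
  rw [← Scheme.Hom.comp_apply, Scheme.IdealSheafData.inclusion_subschemeι]
  exact hz

/-- Multiplication by `r`. -/
def mulBy (X : Over (Spec (CommRingCat.of R))) (r : R) : Coh.structureModule X.left ⟶ Coh.structureModule X.left :=
  StabLib.smulHom _ (Coh.toGlobal X.hom r)

theorem mulBy_app (r : R) (U : X.left.Opens) (m : Γ(X.left, U)) :
    (mulBy X r).app U m = (X.left.presheaf.map (homOfLE (le_top : U ≤ ⊤)).op).hom (fn X r) * m := by
  show (StabLib.smulHom (Coh.structureModule X.left) (Coh.toGlobal X.hom r)).app U m = _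
  rw [StabLib.smulHom_app]
  rfl

theorem mulBy_mul (r s : R) : mulBy X r ≫ mulBy X s = mulBy X (s * r) := by
  rw [mulBy, mulBy, mulBy, HilbArtLib.smulHom_comp, map_mul]

include hϖ in
theorem res_ne_zero (hϖ0 : ϖ ≠ 0) (n : ℕ) (U : X.left.Opens) [Nonempty U] :
    (X.left.presheaf.map (homOfLE (le_top : U ≤ ⊤)).op).hom (fn X (ϖ ^ n)) ≠ 0 := by
  obtain ⟨⟨x, hx⟩⟩ := ‹Nonempty U›
  intro h
  have h' := congrArg (X.left.presheaf.germ U x hx).hom h
  rw [TopCat.Presheaf.germ_res_apply, map_zero, fn, map_pow, map_pow] at h'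
  exact pow_ne_zero n (VertIntLib.pi_ne_zero x hϖ) h'

include hϖ in
theorem mulBy_shortExact (hϖ0 : ϖ ≠ 0) (n : ℕ) (w : mulBy X (ϖ ^ n) ≫ ClSub.toSubscheme (thick X ϖ n) = 0) :
    (ShortComplex.mk _ _ w).ShortExact := by
  let h := kernel.lift (ClSub.toSubscheme (thick X ϖ n)) (mulBy X (ϖ ^ n)) w
  have hinj : ∀ U : X.left.Opens, Function.Injective (fun m : Γ(X.left, U) => (mulBy X (ϖ ^ n)).app U m) := fun U a b hab => by
    rcases isEmpty_or_nonempty U with hU | hU
    · haveI : Subsingleton Γ(X.left, U) := by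
        rw [show U = ⊥ from Opens.ext (Set.eq_empty_of_forall_notMem fun x hx => hU.elim ⟨x, hx⟩)]
        exact CommRingCat.subsingleton_of_isTerminal X.left.sheaf.isTerminalOfEmpty
      exact Subsingleton.elim (α := Γ(X.left, U)) a b
    · haveI : IsDomain Γ(X.left, U) := inferInstance
      simp only at hab
      rw [mulBy_app, mulBy_app] at hab
      exact mul_left_cancel₀ (res_ne_zero hϖ hϖ0 n U) hab
  haveI : IsIso h := QCohLib.isIso_of_bijective_affine h fun U hU => by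
    have hcomp : ∀ m : Γ(X.left, U), (ClSub.idealModι (thick X ϖ n)).app U (h.app U m) = (mulBy X (ϖ ^ n)).app U m :=
      fun m => ConcreteCategory.congr_hom (congrArg (fun φ : Coh.structureModule X.left ⟶ Coh.structureModule X.left => φ.app U)
        (kernel.lift_ι (ClSub.toSubscheme (thick X ϖ n)) (mulBy X (ϖ ^ n)) w)) m
    refine ⟨fun a b hab => hinj U ((hcomp a).symm.trans ((congrArg _ hab).trans (hcomp b))), fun t => ?_⟩
    have hmem : (show Γ(X.left, U) from (ClSub.idealModι (thick X ϖ n)).app U t) ∈ (thick X ϖ n).ideal ⟨U, hU⟩ :=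
      (IntMultLib.toSubscheme_app_eq_zero_iff (thick X ϖ n) ⟨U, hU⟩ _).mp
        (ConcreteCategory.congr_hom (congrArg (fun φ : ClSub.idealMod (thick X ϖ n) ⟶ ClSub.quotMod (thick X ϖ n) => φ.app U)
          (kernel.condition (ClSub.toSubscheme (thick X ϖ n)))) t)
    rw [thick_ideal, Ideal.mem_span_singleton'] at hmem
    obtain ⟨(r : Γ(X.left, U)), hr⟩ := hmem
    refine ⟨r, ?_⟩
    have : Mono (ClSub.idealModι (thick X ϖ n)) := (CurvLib.idealSeq_shortExact _).mono_f
    refine QCohLib.app_injective_of_mono (ClSub.idealModι (thick X ϖ n)) U ?_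
    refine (hcomp r).trans ((mulBy_app _ U r).trans ?_)
    exact (mul_comm _ r).trans hr
  let e₁ : (ShortComplex.mk _ _ w).X₁ ≅ (CurvLib.idealSeq (thick X ϖ n)).X₁ := asIso h
  let e₂ : (ShortComplex.mk _ _ w).X₂ ≅ (CurvLib.idealSeq (thick X ϖ n)).X₂ := Iso.refl _
  let e₃ : (ShortComplex.mk _ _ w).X₃ ≅ (CurvLib.idealSeq (thick X ϖ n)).X₃ := Iso.refl _
  refine ShortComplex.shortExact_of_iso (ShortComplex.isoMk e₁ e₂ e₃ ?_ ?_).symm
    (CurvLib.idealSeq_shortExact (thick X ϖ n))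
  · exact (kernel.lift_ι (ClSub.toSubscheme (thick X ϖ n)) (mulBy X (ϖ ^ n)) w).trans (Category.comp_id _).symm
  · exact (Category.id_comp _).trans (Category.comp_id _).symm

theorem mulBy_comp (n : ℕ) : mulBy X (ϖ ^ n) ≫ ClSub.toSubscheme (thick X ϖ n) = 0 := by
  refine Scheme.Modules.hom_ext _ _ fun U => ?_
  refine ConcreteCategory.hom_ext _ _ fun m => ?_
  show (ClSub.toSubscheme (thick X ϖ n)).app U ((mulBy X (ϖ ^ n)).app U m) = 0
  rw [mulBy_app]
  show ((thick X ϖ n).subschemeι.app U).hom (_ * _) = 0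
  rw [map_mul]
  have h0 : (thick X ϖ n).subschemeι.appTop.hom (fn X (ϖ ^ n)) = 0 := by
    refine (thick X ϖ n).subscheme.sheaf.eq_of_locally_eq' (fun V : X.left.affineOpens => (thick X ϖ n).subschemeι ⁻¹ᵁ V.1) ⊤
      (fun V => homOfLE le_top) (fun z _ => ?_) _ _ fun V => ?_
    · obtain ⟨O, hO, hzO, -⟩ := Opens.isBasis_iff_nbhd.mp X.left.isBasis_affineOpens
        (Opens.mem_top ((thick X ϖ n).subschemeι.base z))
      exact Opens.mem_iSup.2 ⟨⟨O, hO⟩, hzO⟩
    · rw [map_zero]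
      refine (nat_apply (thick X ϖ n).subschemeι (le_top : V.1 ≤ ⊤) _).symm.trans ?_
      exact (IntMultLib.toSubscheme_app_eq_zero_iff (thick X ϖ n) V _).2
        (by rw [thick_ideal]; exact Ideal.mem_span_singleton_self _)
  rw [nat_apply _ (le_top : U ≤ ⊤), show ((thick X ϖ n).subschemeι.app ⊤).hom (fn X (ϖ ^ n)) = 0 from h0, map_zero,
    zero_mul]

include hϖ in
/-- The restriction to the closed fibre is surjective on simple roots of polynomials over `R`. -/
theorem mem_range (hϖ0 : ϖ ≠ 0) [Module.Finite R (Coh.HH X.left (Coh.structureModule X.left) 1)]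
    (x : Coh.HH X.left (ClSub.quotMod (thick X ϖ 1)) 0)
    (P : Polynomial R)
    (h0 : P.eval₂ (VertIntLib.gρ ((thick X ϖ 1).subschemeι ≫ X.hom))
      (show Γ((thick X ϖ 1).subscheme, ⊤) from DegPullLib.e0 _ x) = 0)
    (h1 : IsUnit (P.derivative.eval₂ (VertIntLib.gρ ((thick X ϖ 1).subschemeι ≫ X.hom))
      (show Γ((thick X ϖ 1).subscheme, ⊤) from DegPullLib.e0 _ x))) :
    ∃ z, Sheaf.H.map ((QCohLib.toAbF X.left).map (ClSub.toSubscheme (thick X ϖ 1))) 0 z = x := by
  let T : ∀ n, ShortComplex X.left.Modules := fun n => ShortComplex.mk _ _ (mulBy_comp (X := X) (ϖ := ϖ) n)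
  have hT : ∀ n, (T n).ShortExact := fun n => mulBy_shortExact hϖ hϖ0 n _
  let δ : ∀ n, Coh.HH X.left (ClSub.quotMod (thick X ϖ n)) 0 →ₗ[R] Coh.HH X.left (Coh.structureModule X.left) 1 :=
    fun n => AtlasCoh.δLin (hT n) X.hom 0
  refine AtlasCoh.hExact₃ (QCohLib.toAbF_shortExact (hT 1)) 0 x ?_
  show δ 1 x = 0
  have hmem : ∀ m : ℕ, δ 1 x ∈ (maximalIdeal R ^ m • ⊤ : Submodule R (Coh.HH X.left (Coh.structureModule X.left) 1)) := by
    intro m
    let i := Scheme.IdealSheafData.inclusion (thick_le (X := X) (ϖ := ϖ) m)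
    haveI : IsClosedImmersion i := by
      haveI : IsClosedImmersion (i ≫ (thick X ϖ (m + 1)).subschemeι) := by
        rw [Scheme.IdealSheafData.inclusion_subschemeι]; infer_instance
      exact IsClosedImmersion.of_comp i (thick X ϖ (m + 1)).subschemeι
    have hρ : i.appTop.hom.comp (VertIntLib.gρ ((thick X ϖ (m + 1)).subschemeι ≫ X.hom)) =
        VertIntLib.gρ ((thick X ϖ 1).subschemeι ≫ X.hom) := RingHom.ext fun r => by
      show i.appTop.hom _ = _
      rw [← VertIntLib.gρ_comp, ← Category.assoc, Scheme.IdealSheafData.inclusion_subschemeι]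
    obtain ⟨b, hb⟩ := exists_lift_root i (surjective_inclusion m) _ P _ (hρ.symm ▸ h0) (hρ.symm ▸ h1)
    let y : Coh.HH X.left (ClSub.quotMod (thick X ϖ (m + 1))) 0 := (DegPullLib.e0 _).symm b
    -- the map of sequences
    have hcond : mulBy X (ϖ ^ (m + 1)) ≫ ClSub.toSubscheme (thick X ϖ 1) = 0 := by
      have e : mulBy X (ϖ ^ (m + 1)) = mulBy X (ϖ ^ m) ≫ mulBy X (ϖ ^ 1) := by
        rw [mulBy_mul, ← pow_add, add_comm]
      rw [e, Category.assoc, mulBy_comp, comp_zero]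
    let q : ClSub.quotMod (thick X ϖ (m + 1)) ⟶ ClSub.quotMod (thick X ϖ 1) :=
      (hT (m + 1)).gIsCokernel.desc (CokernelCofork.ofπ (f := (T (m + 1)).f) (ClSub.toSubscheme (thick X ϖ 1)) hcond)
    have hq : ClSub.toSubscheme (thick X ϖ (m + 1)) ≫ q = ClSub.toSubscheme (thick X ϖ 1) :=
      (hT (m + 1)).gIsCokernel.fac _ WalkingParallelPair.one
    let φ : T (m + 1) ⟶ T 1 := ShortComplex.homMk (mulBy X (ϖ ^ m)) (𝟙 _) q
      (by
        show mulBy X (ϖ ^ m) ≫ mulBy X (ϖ ^ 1) = mulBy X (ϖ ^ (m + 1)) ≫ 𝟙 _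
        rw [Category.comp_id, mulBy_mul, ← pow_add, add_comm])
      (by show 𝟙 _ ≫ _ = _; rw [Category.id_comp]; exact hq.symm)
    have hqy : Sheaf.H.map ((QCohLib.toAbF X.left).map q) 0 y = x := by
      refine (DegPullLib.e0 _).injective ?_
      rw [e0_map, AddEquiv.apply_symm_apply]
      refine TopCat.Sheaf.eq_of_locally_eq' ⟨(ClSub.quotMod (thick X ϖ 1)).presheaf, (ClSub.quotMod (thick X ϖ 1)).isSheaf⟩
        (fun U : X.left.affineOpens => U.1) ⊤ (fun U => homOfLE le_top)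
        (fun z _ => by
          obtain ⟨U, hU, hzU, -⟩ := Opens.isBasis_iff_nbhd.mp X.left.isBasis_affineOpens (Opens.mem_top z)
          exact Opens.mem_iSup.mpr ⟨⟨U, hU⟩, hzU⟩) _ _ fun U => ?_
      obtain ⟨s, hs⟩ := CurvLib.unitToPush_app_surjective (thick X ϖ (m + 1)).subschemeι U.2
        ((ClSub.quotMod (thick X ϖ (m + 1))).presheaf.map (homOfLE (le_top : U.1 ≤ ⊤)).op b)
      refine ((NatTrans.naturality_apply q.mapPresheaf (homOfLE (le_top : U.1 ≤ ⊤)).op b).symm.trans ?_)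
      rw [← hs]
      refine (ConcreteCategory.congr_hom (congrArg (fun ψ : Coh.structureModule X.left ⟶ ClSub.quotMod (thick X ϖ 1) => ψ.app U.1) hq) s).trans ?_
      show ((thick X ϖ 1).subschemeι.app U.1).hom s = _
      exact (app_eq_res (thick_le (X := X) (ϖ := ϖ) m) U.1 s b hs).trans (congrArg _ hb)
    have hnat : δ 1 x = Sheaf.H.map ((QCohLib.toAbF X.left).map (mulBy X (ϖ ^ m))) 1 (δ (m + 1) y) := by
      rw [← hqy]
      exact hδ_natural' (QCohLib.toAbF_shortExact (hT (m + 1))) (QCohLib.toAbF_shortExact (hT 1))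
        ((QCohLib.toAbF X.left).mapShortComplex.map φ) 0 y
    rw [hnat]
    show (ϖ ^ m : R) • δ (m + 1) y ∈ _
    exact Submodule.smul_mem_smul (Ideal.pow_mem_pow (hϖ ▸ Ideal.mem_span_singleton_self ϖ) m) Submodule.mem_top
  have hbot := Ideal.iInf_pow_smul_eq_bot_of_isLocalRing (M := Coh.HH X.left (Coh.structureModule X.left) 1)
    (maximalIdeal R) (maximalIdeal.isMaximal R).ne_top
  exact (Submodule.mem_bot R).1 (hbot ▸ Submodule.mem_iInf _ |>.2 hmem)

end VertChiLib
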