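import Groth.Agent.VertChiLib.ModelList
import Groth.Agent.CurveVBLib.Integral
import Groth.Agent.DegPullLib.H0
import Groth.Agent.VertIntLib.Exists

/-!
# The generic fibre of a model with a component list is a curve
-/

set_option autoImplicit false
set_option backward.isDefEq.respectTransparency false
set_option linter.style.haveILetI false
universe u
open AlgebraicGeometry CategoryTheory CategoryTheory.Limits TopologicalSpace IsLocalRing

noncomputable section

namespace VertChiLib

/-- A one-dimensional space of functions consists of the constants. -/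
theorem isIso_appTop_of_h0 {K : Type u} [Field K] {C : Scheme.{u}} (f : C ⟶ Spec (CommRingCat.of K))
    (h : Models.hRank K C f (Coh.structureModule C) 0 = 1) : IsIso f.appTop := by
  letI : C.Over (Spec (CommRingCat.of K)) := ⟨f⟩
  let e : Coh.HH C (Coh.structureModule C) 0 ≃+ Γ(C, ⊤) := DegPullLib.e0 (Coh.structureModule C)
  let φ : K →+* Γ(C, ⊤) := VertIntLib.gρ f
  letI := φ.toAlgebra
  let e' : Coh.HH C (Coh.structureModule C) 0 ≃ₗ[K] Γ(C, ⊤) :=
    { e with map_smul' := fun r x => DegPullLib.e0_smul (Coh.structureModule C) _ x }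
  have h1 : Module.finrank K Γ(C, ⊤) = 1 := e'.finrank_eq.symm.trans h
  haveI : Nontrivial Γ(C, ⊤) := Module.nontrivial_of_finrank_eq_succ h1
  have hb : Function.Bijective φ :=
    ⟨RingHom.injective φ, fun b => by
      obtain ⟨c, hc⟩ := (finrank_eq_one_iff_of_nonzero' (1 : Γ(C, ⊤)) one_ne_zero).1 h1 b
      exact ⟨c, by rw [← hc]; simp [Algebra.smul_def, RingHom.algebraMap_toAlgebra]⟩⟩
  have hb' : Function.Bijective ((Scheme.ΓSpecIso (CommRingCat.of K)).inv ≫ f.appTop).hom := hb
  haveI : IsIso ((Scheme.ΓSpecIso (CommRingCat.of K)).inv ≫ f.appTop) :=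
    (ConcreteCategory.isIso_iff_bijective _).2 hb'
  exact IsIso.of_isIso_comp_left (Scheme.ΓSpecIso (CommRingCat.of K)).inv f.appTop

theorem isIntegral_of_appTop {K : Type u} [Field K] {C : Scheme.{u}} (f : C ⟶ Spec (CommRingCat.of K))
    [IsProper f] [Smooth f] (h : IsIso f.appTop) : IsIntegral C := by
  letI : C.Over (Spec (CommRingCat.of K)) := ⟨f⟩
  haveI : IsProper (C ↘ Spec (CommRingCat.of K)) := ‹IsProper f›
  haveI : Smooth (C ↘ Spec (CommRingCat.of K)) := ‹Smooth f›
  haveI : GeometricallyConnected (C ↘ Spec (CommRingCat.of K)) := VertIntLib.geometricallyConnected_of_appTop f h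
  exact CurveVBLib.isIntegral_of_smooth_geomConnected K

/-- With a vertical curve among the components, the generic fibre has dimension one. -/
theorem isSmoothProperCurve_of_list {R : Type u} [CommRing R] [IsDomain R] [IsDiscreteValuationRing R]
    {C X : Scheme.{u}} {f : C ⟶ Spec (CommRingCat.of (FractionRing R))} {p : X ⟶ Spec (CommRingCat.of R)}
    [IsProper f] [Smooth f] [IsIntegral C] (hX : Models.IsRegularProperModel R X p C f)
    {n : ℕ} {Γ : Fin n → ArSurf.VertComp R (Over.mk p)} (hΓ : Models.IsComponentList R (Over.mk p) Γ)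
    (i : Fin n) : Curve.IsSmoothProperCurve (FractionRing R) C f := by
  refine ⟨inferInstance, inferInstance, inferInstance, ?_⟩
  obtain ⟨⟨hflat, hlft, -, g, hg⟩, hp, hreg⟩ := hX
  haveI := hflat
  haveI := hp
  haveI := hlft
  have hrange : Set.range g = {x | p x = RelMinSmLib.eta (R := R)} := by
    rw [← hg.isoPullback_hom_fst, Scheme.Hom.comp_base, TopCat.coe_comp,
      Set.range_comp, Set.range_eq_univ.2 hg.isoPullback.hom.surjective, Set.image_univ,
      Scheme.Pullback.range_fst, RelMinSmLib.range_genPt]
    rfl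
  set ξ := g (genericPoint C) with hξdef
  have hξ : ∀ x, ξ ⤳ x := fun x => by
    obtain ⟨x', hx', hx'η⟩ := Flat.generalizingMap p (RelMinSmLib.eta_specializes (p x))
    obtain ⟨c, rfl⟩ := hrange.ge hx'η
    exact (((genericPoint_spec C).specializes trivial).map g.continuous).trans hx'
  have hgen' : IsGenericPoint ξ (Set.univ : Set X) :=
    Set.eq_univ_of_forall fun y => specializes_iff_mem_closure.1 (hξ y)
  haveI : IrreducibleSpace X :=
    { toPreirreducibleSpace := ⟨hgen'.isIrreducible.2⟩, toNonempty := ⟨ξ⟩ }
  haveI : IsReduced X := by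
    haveI : ∀ y : X, _root_.IsReduced (X.presheaf.stalk y) := fun y => by
      haveI := hreg y
      haveI := CommAlgDim.isDomain_of_isRegularLocalRing (X.presheaf.stalk y)
      infer_instance
    exact isReduced_of_isReduced_stalk X
  haveI : IsIntegral (Over.mk p).left := isIntegral_of_irreducibleSpace_of_isReduced X
  haveI : Flat (Over.mk p).hom := hflat
  haveI : IsProper (Over.mk p).hom := hp
  haveI : LocallyOfFiniteType (Over.mk p).hom := hlft
  have hd := VertIntLib.dim_closure (X := Over.mk p) (VertIntLib.genPt_over (Γ i))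
    (VertIntLib.isFibGen_of_list hΓ i)
  have hgη : ξ = genericPoint (Over.mk p).left :=
    hgen'.eq (genericPoint_spec (Over.mk p).left)
  have h1 : FlatMor.fibreDimAt f (genericPoint C) = topologicalKrullDim C := fibreDimAt_generic f
  rw [FibDimLib.fibreDimAt_baseChange hg (genericPoint C), ← hξdef, hgη] at h1
  have hdim : topologicalKrullDim (closure ({Models.genPtOf R (Over.mk p) (Γ i)} : Set (Over.mk p).left)) = 1 := by
    rw [← VertIntLib.range_eq_closure,
      ← (Γ i).ι.isEmbedding.toHomeomorph.isHomeomorph.topologicalKrullDim_eq, (Γ i).dim_eq]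
  exact h1.symm.trans (hd.symm.trans hdim)

end VertChiLib
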