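import Groth.Agent.VertChiLib.Mono

/-!
# Lengths over an algebraically closed residue field
-/

set_option autoImplicit false
set_option backward.isDefEq.respectTransparency false
set_option linter.style.haveILetI false
universe u
open AlgebraicGeometry CategoryTheory CategoryTheory.Limits TopologicalSpace IsLocalRing

noncomputable section

namespace VertChiLib

/-- A field which is a finite length algebra over `R` is the residue field if the latter is algebraically
closed. -/
theorem length_eq_one {R : Type u} [CommRing R] [IsLocalRing R] (hk : IsAlgClosed (ResidueField R))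
    {A : Type u} [CommRing A] [Algebra R A] [IsArtinian R A] [IsNoetherian R A] (hA : IsField A) :
    Module.length R A = 1 := by
  haveI := hk
  letI := hA.toField
  have hker : RingHom.ker (algebraMap R A) = maximalIdeal R := by
    haveI : IsArtinianRing (R ⧸ RingHom.ker (algebraMap R A)) := by
      refine isArtinian_of_tower R ?_
      exact isArtinian_of_injective ((Ideal.Quotient.liftₐ _ (Algebra.ofId R A) fun a ha => ha)).toLinearMap
        (RingHom.kerLift_injective (algebraMap R A))
    haveI : (RingHom.ker (algebraMap R A)).IsPrime := RingHom.ker_isPrime _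
    exact IsLocalRing.eq_maximalIdeal
      (Ideal.Quotient.maximal_of_isField _ (IsArtinianRing.isField_of_isDomain _))
  let φ : ResidueField R →+* A := Ideal.Quotient.lift (maximalIdeal R) (algebraMap R A) (hker ▸ fun a ha => ha)
  letI := φ.toAlgebra
  haveI : IsScalarTower R (ResidueField R) A := IsScalarTower.of_algebraMap_eq fun r => rfl
  haveI : Module.Finite (ResidueField R) A := Module.Finite.of_restrictScalars_finite R _ _
  have hs : Function.Bijective (algebraMap (ResidueField R) A) :=
    IsAlgClosed.algebraMap_bijective_of_isIntegral (k := ResidueField R) (K := A)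
  rw [Module.length_eq_of_surjective (R := ResidueField R) (M := A) (S := R) residue_surjective,
    Module.length_eq_finrank, ← (LinearEquiv.ofBijective (Algebra.linearMap _ A) hs).finrank_eq,
    Module.finrank_self, Nat.cast_one]

variable {R : Type u} [CommRing R] [IsDomain R] [IsDiscreteValuationRing R]
  {X : Over (Spec (CommRingCat.of R))} [IsProper X.hom]

/-- A connected-in-degree-zero divisor has `h⁰ = 1`. -/
theorem len_zero_eq_one (hk : IsAlgClosed (ResidueField R)) {I : X.left.IdealSheafData}
    (h : Fin1 R (ClSub.quotMod I)) (hK : IsField Γ(I.subscheme, ⊤)) : len R (ClSub.quotMod I) 0 = 1 := by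
  letI := (VertIntLib.gρ (I.subschemeι ≫ X.hom)).toAlgebra
  have hne : Module.length R Γ(I.subscheme, ⊤) ≠ ⊤ := length_ne_top h
  obtain ⟨hN, hA⟩ := isFiniteLength_iff_isNoetherian_isArtinian.1 (Module.length_ne_top_iff.1 hne)
  have em : (Algebra.toModule : Module R Γ(I.subscheme, ⊤)) = VertIntLib.gmod (I.subschemeι ≫ X.hom) :=
    Module.ext (funext fun r => funext fun x => rfl)
  have e := VertIntLib.length_hhQuot (A := R) I
  rw [VertIntLib.glen, ← em, length_eq_one hk hK] at e
  rw [len]
  exact (congrArg ENat.toNat e).trans rfl

/-- Comparison with the genus. -/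
theorem lt_of_χ {F : X.left.Modules} {g g' a : ℕ} (r0 : len R F 0 = 1) (hχ : χ R F = 1 - (g' : ℤ))
    (hg : g' = g) (hlt : a < len R F 1) : a < g := by
  simp only [χ, r0] at hχ
  omega

end VertChiLib
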