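import Groth.Agent.VertChiLib.Chain
import Groth.Agent.VertChiLib.Fibre
import Groth.Agent.VertIntLib.Exists

/-!
# The reduced closed fibre, and monotonicity of `h¹` along chains
-/

set_option autoImplicit false
set_option backward.isDefEq.respectTransparency false
set_option linter.style.haveILetI false
set_option linter.unusedSectionVars false
set_option maxHeartbeats 800000
universe u
open AlgebraicGeometry CategoryTheory CategoryTheory.Limits TopologicalSpace IsLocalRing
open EquidimLib (stalkPt)

noncomputable section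

namespace VertChiLib

/-- A product of pairwise non-associated primes and units spans a radical ideal. -/
theorem isRadical_prod {A : Type u} [CommRing A] [IsDomain A] [UniqueFactorizationMonoid A] {ι : Type*}
    [Fintype ι] (g : ι → A) (hg : ∀ i, IsUnit (g i) ∨ Prime (g i))
    (hne : ∀ i j, i ≠ j → Prime (g i) → Prime (g j) → ¬ Associated (g i) (g j)) :
    (Ideal.span {∏ i, g i}).IsRadical := by
  classical
  rintro x ⟨k, hk⟩
  rw [Ideal.mem_span_singleton] at hk ⊢
  refine Finset.prod_dvd_of_isRelPrime (fun i _ j _ hij => ?_) (fun i _ => ?_)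
  · rcases hg i with hi | hi
    · exact hi.isRelPrime_left
    rcases hg j with hj | hj
    · exact hj.isRelPrime_right
    exact (hi.irreducible.isRelPrime_iff_not_dvd).2 fun h => hne i j hij hi hj (hi.associated_of_dvd hj h)
  · rcases hg i with hi | hi
    · exact hi.dvd
    · exact hi.dvd_of_dvd_pow ((Finset.dvd_prod_of_mem g (Finset.mem_univ i)).trans hk)

variable {R : Type u} [CommRing R] [IsDomain R] [IsDiscreteValuationRing R]
  {X : Over (Spec (CommRingCat.of R))} [IsIntegral X.left] [Flat X.hom] [IsProper X.hom]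
  (hreg : ∀ x : X.left, IsRegularLocalRing (X.left.presheaf.stalk x))
  {n : ℕ} {Γ : Fin n → ArSurf.VertComp R X} (hΓ : Models.IsComponentList R X Γ)

include hreg hΓ in
/-- `Σ Γ_i` is the reduced closed fibre. -/
theorem J_one_eq : J Γ (1 : Fin n → ℕ) = Models.redFibreIdeal R X := by
  classical
  haveI : IsLocallyNoetherian X.left := LocallyOfFiniteType.isLocallyNoetherian X.hom
  have hC := isEffCartier_list hreg hΓ
  set I := J Γ (1 : Fin n → ℕ) with hIdef
  have hsupp : I.support = (⟨Models.specialFibreSet R X, Models.isClosed_specialFibreSet R X⟩ : Closeds X.left) := by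
    refine SetLike.ext fun x => ?_
    rw [hIdef, J]
    simp only [Pi.one_apply, pow_one, SurfAmpleLib.mem_support_finprod, Finset.mem_univ, true_and]
    show (∃ i, x ∈ (Γ i).ι.ker.support) ↔ x ∈ Models.specialFibreSet R X
    constructor
    · rintro ⟨i, hi⟩
      have hr : x ∈ Set.range (Γ i).ι.base := by
        have := hi
        rw [← SetLike.mem_coe, Scheme.Hom.support_ker, (Γ i).ι.isClosedEmbedding.isClosed_range.closure_eq] at this
        exact this
      obtain ⟨c, rfl⟩ := hr
      exact VertIntLib.over_closedPoint (Γ i) c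
    · intro hx
      obtain ⟨i, hi⟩ := VertIntLib.cover_of_list hΓ x hx
      refine ⟨i, ?_⟩
      rw [← SetLike.mem_coe, Scheme.Hom.support_ker]
      exact subset_closure hi
  rw [Models.redFibreIdeal, ← hsupp, Scheme.IdealSheafData.vanishingIdeal_support]
  refine le_antisymm (fun U => Ideal.le_radical) (SDivLib.le_of_stalk fun x => ?_)
  obtain ⟨U, hU, hxU, -⟩ := exists_isAffineOpen_mem_and_subset (X := X.left) (x := x) (U := ⊤) trivial
  rw [SDivLib.stalkIdeal_eq _ ⟨U, hU⟩ hxU]
  refine le_trans (show Ideal.map _ (I.ideal ⟨U, hU⟩).radical ≤ (Ideal.map _ (I.ideal ⟨U, hU⟩)).radical from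
    Ideal.map_radical_le _) ?_
  rw [← SDivLib.stalkIdeal_eq I ⟨U, hU⟩ hxU]
  refine Ideal.IsRadical.radical ?_ |>.le
  obtain ⟨hdom, hufd⟩ := VertIntLib.ufd_stalk hreg x
  have hgen : ∀ i, ∃ g, IntMult.stalkIdeal (Γ i).ι.ker x = Ideal.span {g} ∧ g ≠ 0 := fun i => by
    obtain ⟨V, hxV, f, hf0, hf⟩ := hC i x
    haveI : Nonempty V.1 := ⟨⟨x, hxV⟩⟩
    refine ⟨_, by rw [SDivLib.stalkIdeal_eq _ V hxV, hf, Ideal.map_span, Set.image_singleton], fun h0 => ?_⟩
    exact nonZeroDivisors.ne_zero hf0 (germ_injective_of_isIntegral X.left x hxV (h0.trans (map_zero _).symm))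
  choose g hg' hg0 using hgen
  have e : IntMult.stalkIdeal I x = Ideal.span {∏ i, g i} := by
    rw [hIdef, J, SDivLib.stalkIdeal_prod, ← Ideal.prod_span_singleton]
    exact Finset.prod_congr rfl fun i _ => by rw [Pi.one_apply, pow_one, hg']
  rw [e]
  have hP : ∀ i, IsUnit (g i) ∨ Prime (g i) := fun i => by
    by_cases h : Models.genPtOf R X (Γ i) ⤳ x
    · refine Or.inr ((Ideal.span_singleton_prime (hg0 i)).1 ?_)
      rw [← hg', VertIntLib.stalkIdeal_ker_eq (Γ i) h]
      infer_instance
    · exact Or.inl (Ideal.span_singleton_eq_top.1 (by rw [← hg', VertIntLib.stalkIdeal_ker_top (Γ i) h]))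
  refine isRadical_prod g hP fun i j hij hi hj hass => hij ?_
  have hh : ∀ k, Prime (g k) → Models.genPtOf R X (Γ k) ⤳ x := fun k hk => by
    by_contra h
    exact hk.not_unit (Ideal.span_singleton_eq_top.1 (by rw [← hg', VertIntLib.stalkIdeal_ker_top (Γ k) h]))
  have heq := Ideal.span_singleton_eq_span_singleton.2 hass
  rw [← hg', ← hg', VertIntLib.stalkIdeal_ker_eq (Γ i) (hh i hi), VertIntLib.stalkIdeal_ker_eq (Γ j) (hh j hj)] at heq
  have hp := congrArg (stalkPt x) (PrimeSpectrum.ext heq)
  rw [CycDivLib.stalkPt_primeOf, CycDivLib.stalkPt_primeOf] at hp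
  exact VertIntLib.genPt_injective hΓ hp

end VertChiLib
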