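import Groth.Agent.VertChiLib.Chain
import Groth.Agent.VertChiLib.Red
import Groth.Agent.VertChiLib.Exc
import Groth.Agent.VertChiLib.Div

/-!
# `h¹` along chains of divisors with one-dimensional rings of functions
-/

set_option autoImplicit false
set_option backward.isDefEq.respectTransparency false
set_option linter.style.haveILetI false
set_option linter.unusedSectionVars false
set_option maxHeartbeats 800000
universe u
open AlgebraicGeometry CategoryTheory CategoryTheory.Limits TopologicalSpace IsLocalRing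
open KFlatLib (pb)

noncomputable section

namespace VertChiLib

/-- `H⁰` of the middle term when `H⁰` of the first vanishes. -/
theorem length_zero_le {A : Type u} [CommRing A] {X : Scheme.{u}} [X.Over (Spec (CommRingCat.of A))]
    {S : ShortComplex X.Modules} (hS : S.ShortExact) (h : Subsingleton (Coh.HH X S.X₁ 0)) :
    Module.length A (Coh.HH X S.X₂ 0) ≤ Module.length A (Coh.HH X S.X₃ 0) := by
  let f := X ↘ Spec (CommRingCat.of A)
  refine Module.length_le_of_injective (AtlasCoh.hLin f S.g 0) fun a b hab => sub_eq_zero.1 ?_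
  obtain ⟨c, hc⟩ := AtlasCoh.hExact₂ (QCohLib.toAbF_shortExact hS) 0 (a - b) (by
    show (AtlasCoh.hLin f S.g 0) (a - b) = 0
    rw [map_sub, sub_eq_zero]
    exact hab)
  rw [@Subsingleton.elim _ h c 0] at hc
  exact hc.symm.trans (map_zero (AtlasCoh.hLin f S.f 0))

variable {R : Type u} [CommRing R] [IsDomain R] [IsDiscreteValuationRing R]
  {X : Over (Spec (CommRingCat.of R))} [IsIntegral X.left] [Flat X.hom] [IsProper X.hom]
  (hreg : ∀ x : X.left, IsRegularLocalRing (X.left.presheaf.stalk x))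
  {n : ℕ} {Γ : Fin n → ArSurf.VertComp R X} (hΓ : Models.IsComponentList R X Γ)
  {L : Fin n → X.left.Modules} (hL : ∀ i, ClSub.IsInverseOf (L i) (ClSub.idealMod (Γ i).ι.ker))

include hreg hΓ hL in
theorem len_zero_step (a : Fin n → ℕ) (i : Fin n)
    (hpos : 0 < ∑ j, (a j : ℤ) * ArSurf.inter R X (L j) (Γ i)) :
    len R (ClSub.quotMod (J Γ (a + Pi.single i 1))) 0 ≤ len R (ClSub.quotMod (J Γ a)) 0 := by
  classical
  haveI : IsLocallyNoetherian X.left := LocallyOfFiniteType.isLocallyNoetherian X.hom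
  have hC := isEffCartier_list hreg hΓ
  rw [J_add, J_single]
  obtain ⟨S, hS, ⟨e1⟩, ⟨e2⟩, ⟨e3⟩⟩ := SurfAmpleLib.exists_quotSeq (isEffCartier_J hC a) (hC i)
  have hinv := IntMultLib.isInvertible_idealMod _ (isEffCartier_J hC a)
  haveI := VertIntLib.isProper_curve (Γ i)
  obtain ⟨e⟩ := nonempty_tensor_quot (Γ i) hinv
  have hpb := AmpleDevLib.isInvertible_pb (Γ i).ι hinv
  have hdeg : Curv2.deg (ResidueField R) (Γ i).curve.left (pb (Γ i).ι (ClSub.idealMod (J Γ a))) 1 < 0 := by
    show VertIntLib.dId (Γ i) (J Γ a) < 0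
    rw [dId_J (Γ i) hC a]
    have h : ∀ j, (a j : ℤ) * VertIntLib.dId (Γ i) (Γ j).ι.ker = -((a j : ℤ) * ArSurf.inter R X (L j) (Γ i)) :=
      fun j => by rw [VertIntLib.inter_eq_neg (Γ i) (hC j) (hL j)]; ring
    rw [Finset.sum_congr rfl fun j _ => h j, Finset.sum_neg_distrib]
    linarith
  have h0 : Subsingleton (Coh.HH (Γ i).curve.left (pb (Γ i).ι (ClSub.idealMod (J Γ a))) 0) :=
    subsingleton_h0_of_deg_neg (k := ResidueField R) (Γ i).dim_eq hpb hdeg
  have hsub : Subsingleton (Coh.HH X.left S.X₁ 0) := by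
    rw [← Module.length_eq_zero_iff (R := R), length_iso (A := R) (e1 ≪≫ e) 0,
      len_push (Γ i) _ (CurvLib.isCoh_of_isInvertible hpb), Module.finrank_zero_of_subsingleton, Nat.cast_zero]
  have h := length_zero_le (A := R) hS hsub
  rw [length_iso (A := R) e2 0, length_iso (A := R) e3 0] at h
  exact ENat.toNat_le_toNat h ((fin1_J hC a).1 0)

omit [IsIntegral X.left] [Flat X.hom] in
theorem len_zero_pos {I : X.left.IdealSheafData} (h : Fin1 R (ClSub.quotMod I))
    (hK : IsField Γ(I.subscheme, ⊤)) : 1 ≤ len R (ClSub.quotMod I) 0 := by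
  letI := (VertIntLib.gρ (I.subschemeι ≫ X.hom)).toAlgebra
  haveI : Nontrivial Γ(I.subscheme, ⊤) := hK.nontrivial
  haveI : Nontrivial (Coh.HH X.left (ClSub.quotMod I) 0) :=
    (show Coh.HH X.left (ClSub.quotMod I) 0 ≃+ Γ(I.subscheme, ⊤) from DegPullLib.e0 _).toEquiv.nontrivial
  have hp : 0 < Module.length R (Coh.HH X.left (ClSub.quotMod I) 0) := Module.length_pos
  rw [len, Nat.one_le_iff_ne_zero]
  exact fun h0 => (ENat.toNat_eq_zero.1 h0).elim hp.ne' (h.1 0)

include hreg hΓ hL in
/-- Monotonicity of `h¹` up to the closed fibre, strict if nothing is exceptional. -/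
theorem h1_mono (hconn : _root_.IsPreconnected (Models.specialFibreSet R X))
    (hgcd : Models.multGcd R X Γ = 1) :
    ∀ (m : ℕ) (a : Fin n → ℕ), ∑ j, (Models.mult R X (Γ j) - a j) = m → (∀ j, a j ≤ Models.mult R X (Γ j)) → a ≠ 0 →
      IsField Γ((J Γ a).subscheme, ⊤) → len R (ClSub.quotMod (J Γ a)) 0 = 1 →
      len R (ClSub.quotMod (J Γ fun j => Models.mult R X (Γ j))) 0 = 1 ∧
      len R (ClSub.quotMod (J Γ a)) 1 ≤ len R (ClSub.quotMod (J Γ fun j => Models.mult R X (Γ j))) 1 ∧
        (a ≠ (fun j => Models.mult R X (Γ j)) → (∀ i, ¬ Models.IsExcCurve (Γ i).ι) →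
          len R (ClSub.quotMod (J Γ a)) 1 < len R (ClSub.quotMod (J Γ fun j => Models.mult R X (Γ j))) 1) := by
  classical
  haveI : IsLocallyNoetherian X.left := LocallyOfFiniteType.isLocallyNoetherian X.hom
  have hC := isEffCartier_list hreg hΓ
  have hDv : Dv Γ = fun j => Models.mult R X (Γ j) := funext fun j => by rw [Dv, hgcd, Nat.div_one]
  intro m
  induction m using Nat.strong_induction_on with
  | _ m ih =>
    intro a hm hle ha hK hlen
    by_cases h1 : a = fun j => Models.mult R X (Γ j)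
    · exact h1 ▸ ⟨hlen, le_rfl, fun h => absurd h1 (h1 ▸ h)⟩
    obtain ⟨i, hi, hpos⟩ := exists_next hreg hΓ hL hconn a ha (hDv ▸ hle) (hDv ▸ h1)
    rw [hDv] at hi
    have hK' := isField_add hreg hΓ hL a i hK hpos
    have hlen' : len R (ClSub.quotMod (J Γ (a + Pi.single i 1))) 0 = 1 :=
      le_antisymm ((len_zero_step hreg hΓ hL a i hpos).trans hlen.le) (len_zero_pos (fin1_J hC _) hK')
    have hstep := χ_step hreg hΓ hL a i
    simp only [χ, cst, hlen, hlen'] at hstep
    obtain ⟨hwpos, -, hdvd⟩ := dvd_inter (Γ i)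
    have hle' : (Models.wdeg R X (Γ i) : ℤ) ≤ ∑ j, (a j : ℤ) * ArSurf.inter R X (L j) (Γ i) :=
      Int.le_of_dvd hpos (Finset.dvd_sum fun j _ => Dvd.dvd.mul_left (hdvd (L j)) _)
    have hnat : len R (ClSub.quotMod (J Γ a)) 1 ≤ len R (ClSub.quotMod (J Γ (a + Pi.single i 1))) 1 := by
      have : (len R (ClSub.quotMod (J Γ a)) 1 : ℤ) ≤ (len R (ClSub.quotMod (J Γ (a + Pi.single i 1))) 1 : ℤ) := by
        linarith [Int.natCast_nonneg (Models.h1 R X (Γ i))]
      exact_mod_cast this
    obtain ⟨r0, r1, r2⟩ := ih _ (hm ▸ sum_sub_add_single hi) _ rfl (add_single_le hle hi)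
      (fun h => by simpa using congrFun h i) hK' hlen'
    refine ⟨r0, hnat.trans r1, fun _ hexc => ?_⟩
    by_cases h2 : (a + Pi.single i 1 : Fin n → ℕ) = fun j => Models.mult R X (Γ j)
    · rw [← h2]
      refine lt_of_le_of_ne hnat fun heq => hexc i ((isExcCurve_iff (Γ i) (hC i) (hL i)).2 ?_)
      have hsum : ∑ j, (a j : ℤ) * ArSurf.inter R X (L j) (Γ i) = -ArSurf.inter R X (L i) (Γ i) := by
        have hr := VertIntLib.list_row hreg hΓ hL i
        have e : ∀ j, (Models.mult R X (Γ j) : ℤ) * ArSurf.inter R X (L j) (Γ i) =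
            (a j : ℤ) * ArSurf.inter R X (L j) (Γ i) + if j = i then ArSurf.inter R X (L j) (Γ i) else 0 := fun j => by
          have := congrFun h2 j
          simp only [Pi.add_apply] at this
          rw [← this]
          rcases eq_or_ne j i with rfl | hj
          · simp; ring
          · simp [hj]
        rw [Finset.sum_congr rfl fun j _ => e j, Finset.sum_add_distrib, Finset.sum_ite_eq'] at hr
        simp only [Finset.mem_univ, if_true] at hr
        linarith
      have heqz : (len R (ClSub.quotMod (J Γ a)) 1 : ℤ) = (len R (ClSub.quotMod (J Γ (a + Pi.single i 1))) 1 : ℤ) := by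
        rw [heq]
      have hh1 : (Models.h1 R X (Γ i) : ℤ) = 0 := le_antisymm (by linarith) (Int.natCast_nonneg _)
      exact ⟨by exact_mod_cast hh1, by linarith⟩
    · exact lt_of_le_of_lt hnat (r2 h2 hexc)

end VertChiLib
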