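import Groth.Agent.VertChiLib.PicTorsion
import Groth.Agent.VertChiLib.Red
import Groth.Agent.VertChiLib.Fibre
import Groth.Agent.ThickTrivLib.Main
import Groth.Agent.HilbPtsLib.DivDeg

/-!
# Torsion bundles trivial on the reduced closed fibre
-/

set_option autoImplicit false
set_option backward.isDefEq.respectTransparency false
set_option linter.style.haveILetI false
set_option maxHeartbeats 1000000
universe u
open AlgebraicGeometry CategoryTheory CategoryTheory.Limits TopologicalSpace IsLocalRing
open KFlatLib (pb)

noncomputable section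

namespace VertChiLib

theorem idealSheaf_mul {A : Type u} [CommRing A] (I J : Ideal A) :
    Curv2.idealSheaf A (I * J) = Curv2.idealSheaf A I * Curv2.idealSheaf A J := by
  refine Scheme.IdealSheafData.ext_of_isAffine ?_
  simp only [Curv2.idealSheaf, Scheme.IdealSheafData.ideal_mul, Pi.mul_apply,
    Scheme.IdealSheafData.ofIdealTop_ideal, Ideal.map_mul]

theorem nonempty_pb_pow {X Y : Scheme.{u}} (g : X ⟶ Y) (L : Y.Modules) :
    ∀ n : ℕ, Nonempty (pb g (CohB1.tensorPow L n) ≅ CohB1.tensorPow (pb g L) n)
  | 0 => ⟨KFlatLib.pullUnitIso g⟩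
  | n + 1 => by
    obtain ⟨e⟩ := nonempty_pb_pow g L n
    exact ⟨PicPnLib.pullTens g _ L ≪≫ HilbPolyLib.congrLeft e _⟩

theorem nonempty_pb_factor {X Y Z : Scheme.{u}} (a : X ⟶ Y) {b : Y ⟶ Z} {c : X ⟶ Z} (h : a ≫ b = c) {M : Z.Modules}
    (t : Nonempty (pb b M ≅ Coh.structureModule Y)) : Nonempty (pb c M ≅ Coh.structureModule X) := by
  obtain ⟨t⟩ := t
  exact ⟨((Scheme.Modules.pullbackCongr h).app M).symm ≪≫ ((Scheme.Modules.pullbackComp a b).app M).symm ≪≫
    (Scheme.Modules.pullback a).mapIso t ≪≫ KFlatLib.pullUnitIso a⟩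

theorem nonempty_pb_of_comp {X Y Z : Scheme.{u}} (a : X ⟶ Y) (b : Y ⟶ Z) {M : Z.Modules}
    (t : Nonempty (pb (a ≫ b) M ≅ Coh.structureModule X)) : Nonempty (pb a (pb b M) ≅ Coh.structureModule X) :=
  ⟨(Scheme.Modules.pullbackComp a b).app M ≪≫ t.some⟩

/-- Simple-root equations on a reduced `R`-finite scheme over the residue field. -/
theorem simple_root_of_reduced {R : Type u} [CommRing R] [IsDomain R] [IsDiscreteValuationRing R]
    [PerfectField (ResidueField R)] {A : Type u} [CommRing A] [IsReduced A] (φ : R →+* A) (hfin : φ.Finite)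
    (hm : ∀ r ∈ maximalIdeal R, φ r = 0) (a : A) :
    ∃ P : Polynomial R, P.eval₂ φ a = 0 ∧ IsUnit (P.derivative.eval₂ φ a) := by
  let ψ : ResidueField R →+* A := Ideal.Quotient.lift (maximalIdeal R) φ hm
  letI := φ.toAlgebra
  letI := ψ.toAlgebra
  haveI : IsScalarTower R (ResidueField R) A := IsScalarTower.of_algebraMap_eq fun r => rfl
  haveI : Module.Finite R A := hfin
  haveI : Module.Finite (ResidueField R) A := Module.Finite.of_restrictScalars_finite R _ _
  obtain ⟨h0, h1⟩ := exists_simple_root_reduced (k := ResidueField R) a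
  obtain ⟨P, hP⟩ := Polynomial.map_surjective (residue R) residue_surjective (minpoly (ResidueField R) a)
  have h : ∀ Q : Polynomial R, Q.eval₂ φ a = Polynomial.aeval a (Q.map (residue R)) := fun Q => by
    rw [Polynomial.aeval_def, Polynomial.eval₂_map]
    rfl
  exact ⟨P, by rw [h, hP, h0], by rw [h, ← Polynomial.derivative_map, hP]; exact h1⟩

variable {R : Type u} [CommRing R] [IsDomain R] [IsDiscreteValuationRing R]
  {X : Over (Spec (CommRingCat.of R))} [IsIntegral X.left] [Flat X.hom] [IsProper X.hom]
  (hreg : ∀ x : X.left, IsRegularLocalRing (X.left.presheaf.stalk x))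
  {n : ℕ} {Γ : Fin n → ArSurf.VertComp R X} (hΓ : Models.IsComponentList R X Γ)

include hreg hΓ in
/-- The maximal ideal kills the functions on the reduced closed fibre. -/
theorem red_killed {r : R} (hr : r ∈ maximalIdeal R) :
    VertIntLib.gρ ((Models.redFibreIdeal R X).subschemeι ≫ X.hom) r = 0 := by
  have hle : Models.specialFibreIdeal R X ≤ Models.redFibreIdeal R X := by
    rw [Models.redFibreIdeal, ← Scheme.IdealSheafData.le_support_iff_le_vanishingIdeal]
    exact fun x hx => (VertIntLib.mem_support_fibre_iff x).2 hx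
  haveI : IsClosedImmersion (Spec.map (CommRingCat.ofHom (residue R))) :=
    IsClosedImmersion.spec_of_surjective _ residue_surjective
  have hker : (Spec.map (CommRingCat.ofHom (residue R))).ker ≤
      ((Models.redFibreIdeal R X).subschemeι ≫ X.hom).ker := by
    rw [Scheme.Hom.ker_comp, Scheme.IdealSheafData.le_map_iff_comap_le, Scheme.IdealSheafData.ker_subschemeι,
      ker_specMap, IsLocalRing.ker_residue]
    exact hle
  rw [show (Models.redFibreIdeal R X).subschemeι ≫ X.hom = _ ≫ _ from
    (IsClosedImmersion.lift_fac _ _ hker).symm]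
  refine (NodalLib.toGlobal_comp_specMap' _ (CommRingCat.ofHom (residue R)) r).trans ?_
  show VertIntLib.gρ _ (residue R r) = 0
  rw [(residue_eq_zero_iff r).2 hr, map_zero]

include hreg hΓ in
theorem trivial_of_redFibre {h : ℕ} (hh : 0 < h)
    (hchar : ∀ q : ℕ, q.Prime → CharP (ResidueField R) q → ¬ q ∣ h) {M : X.left.Modules}
    (hM : PicF.IsInvertible M) (htors : Nonempty (CohB1.tensorPow M h ≅ Coh.structureModule X.left))
    (htriv : Nonempty (pb (Models.redFibreIdeal R X).subschemeι M ≅
      Coh.structureModule (Models.redFibreIdeal R X).subscheme)) :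
    Nonempty (M ≅ Coh.structureModule X.left) := by
  classical
  haveI : IsLocallyNoetherian X.left := LocallyOfFiniteType.isLocallyNoetherian X.hom
  haveI : CompactSpace X.left := QuasiCompact.compactSpace_of_compactSpace X.hom
  set I₀ := Models.redFibreIdeal R X with hI₀
  haveI : AlgebraicGeometry.IsReduced I₀.subscheme := DevissLib.isReduced_vanishingIdeal' _
  have hfin : (VertIntLib.gρ (I₀.subschemeι ≫ X.hom)).Finite := by
    have h := finite_gρ (X := X) (fin1_J (isEffCartier_list hreg hΓ) (1 : Fin n → ℕ))
    rwa [J_one_eq hreg hΓ] at h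
  have hm := fun r (hr : r ∈ maximalIdeal R) => red_killed hreg hΓ hr
  have hhk : (h : ResidueField R) ≠ 0 := fun h0 => by
    rcases CharP.char_is_prime_or_zero (ResidueField R) (ringChar (ResidueField R)) with hp | hp
    · exact hchar _ hp inferInstance ((CharP.cast_eq_zero_iff _ _ h).1 h0)
    · haveI : CharP (ResidueField R) 0 := hp ▸ ringChar.charP (ResidueField R)
      haveI := CharP.charP_to_charZero (ResidueField R)
      exact hh.ne' (by exact_mod_cast h0)
  have hhR : IsUnit (h : R) := (notMem_maximalIdeal (R := R)).1 fun hm' =>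
    hhk (by rw [← map_natCast (residue R)]; exact (residue_eq_zero_iff _).2 hm')
  -- the thickenings of the reduced fibre
  have hall : ∀ k : ℕ, Nonempty (pb (I₀ ^ (k + 1)).subschemeι M ≅ Coh.structureModule (I₀ ^ (k + 1)).subscheme) := by
    intro k
    induction k with
    | zero => rw [pow_one]; exact htriv
    | succ k ih =>
      let Q := I₀ ^ (k + 1 + 1)
      let W := Q.subscheme
      let I := (I₀ ^ (k + 1)).comap Q.subschemeι
      haveI : CompactSpace W := QuasiCompact.compactSpace_of_compactSpace Q.subschemeι
      haveI : CompactSpace I.subscheme := QuasiCompact.compactSpace_of_compactSpace I.subschemeι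
      have hI : I * I = ⊥ := by
        rw [← HilbPts.SC.comap_mul, ← pow_add, eq_bot_iff, ← Scheme.IdealSheafData.le_map_iff_comap_le,
          Scheme.IdealSheafData.map_bot, Scheme.IdealSheafData.ker_subschemeι]
        refine (Eq.le ?_).trans (mul_le_of_le_one_right' (b := I₀ ^ k) le_top)
        rw [← pow_add]
        congr 1
        omega
      have hIsupp : Function.Surjective I.subschemeι.base := by
        intro w
        rw [← Set.mem_range, I.range_subschemeι, Scheme.IdealSheafData.support_comap]
        show Q.subschemeι w ∈ (I₀ ^ (k + 1)).support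
        rw [Scheme.IdealSheafData.support_pow_succ, ← Scheme.IdealSheafData.support_pow_succ (I := I₀) (n := k + 1),
          ← SetLike.mem_coe, ← Q.range_subschemeι]
        exact ⟨w, rfl⟩
      -- the reduced fibre inside
      have hQ0 : Q ≤ I₀ := by
        rw [show Q = I₀ ^ (k + 1) * I₀ from pow_succ I₀ (k + 1)]
        exact mul_le_of_le_one_left' le_top
      let a := Scheme.IdealSheafData.inclusion hQ0
      have ha : a ≫ Q.subschemeι = I₀.subschemeι := Scheme.IdealSheafData.inclusion_subschemeι hQ0
      have hker : I.subschemeι.ker ≤ a.ker := by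
        rw [Scheme.IdealSheafData.ker_subschemeι, ← Scheme.IdealSheafData.le_map_iff_comap_le, ← Scheme.Hom.ker_comp,
          ha, Scheme.IdealSheafData.ker_subschemeι, pow_succ]
        exact mul_le_of_le_one_left' le_top
      let j := IsClosedImmersion.lift I.subschemeι a hker
      have hj : j ≫ I.subschemeι = a := IsClosedImmersion.lift_fac _ _ _
      have hsj : Function.Surjective j.base := by
        intro z
        have hz : Q.subschemeι (I.subschemeι z) ∈ (I₀.support : Set X.left) := by
          rw [← Scheme.IdealSheafData.support_pow_succ (I := I₀) (n := k + 1), ← Q.range_subschemeι]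
          exact ⟨_, rfl⟩
        rw [← I₀.range_subschemeι] at hz
        obtain ⟨y, hy⟩ := hz
        refine ⟨y, I.subschemeι.isEmbedding.injective (Q.subschemeι.isEmbedding.injective ?_)⟩
        rw [← hy, ← ha, ← hj]
        rfl
      let ρ : R →+* Γ(W, ⊤) := VertIntLib.gρ (Q.subschemeι ≫ X.hom)
      have hρ : j.appTop.hom.comp (I.subschemeι.appTop.hom.comp ρ) = VertIntLib.gρ (I₀.subschemeι ≫ X.hom) := by
        ext r
        show j.appTop.hom (I.subschemeι.appTop.hom (VertIntLib.gρ _ r)) = _
        rw [← VertIntLib.gρ_comp, ← VertIntLib.gρ_comp, ← Category.assoc, ← Category.assoc, hj, ha]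
      have huW : IsUnit (h : Γ(W, ⊤)) := by
        have := hhR.map ρ
        rwa [map_natCast] at this
      refine trivial_of_sq_zero I hI h huW ?_ (AmpleDevLib.isInvertible_pb _ hM) ?_ ?_
      · rcases CharP.char_is_prime_or_zero (ResidueField R) (ringChar (ResidueField R)) with hp | hp
        · left
          have hq : ((ringChar (ResidueField R) : ℕ) : R) ∈ maximalIdeal R := by
            rw [← residue_eq_zero_iff, map_natCast, CharP.cast_eq_zero]
          have hz : a.appTop.hom (ρ (ringChar (ResidueField R) : R)) = 0 := by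
            rw [← VertIntLib.gρ_comp, ← Category.assoc, ha]
            exact hm _ hq
          have hsa : Function.Surjective a.base := by
            rw [← hj]
            exact hIsupp.comp hsj
          obtain ⟨N, hN⟩ := isNilpotent_top a hsa _ hz
          exact ⟨ringChar (ResidueField R) ^ N, ((hp.coprime_iff_not_dvd.2 (hchar _ hp inferInstance))).pow_left N,
            by rw [Nat.cast_pow, ← map_natCast ρ, hN]⟩
        · right
          haveI : CharP (ResidueField R) 0 := hp ▸ ringChar.charP (ResidueField R)
          haveI := CharP.charP_to_charZero (ResidueField R)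
          haveI : PerfectField (ResidueField R) := PerfectField.ofCharZero
          intro v
          exact units_div j hsj I.subschemeι hIsupp ρ h huW
            (fun b => by rw [hρ]; exact simple_root_of_reduced _ hfin hm b) v
      · obtain ⟨e⟩ := nonempty_pb_pow Q.subschemeι M h
        obtain ⟨t⟩ := htors
        exact ⟨e.symm ≪≫ (Scheme.Modules.pullback Q.subschemeι).mapIso t ≪≫ KFlatLib.pullUnitIso _⟩
      · have hle : (I₀ ^ (k + 1)).subschemeι.ker ≤ (I.subschemeι ≫ Q.subschemeι).ker := by
          rw [Scheme.IdealSheafData.ker_subschemeι, Scheme.Hom.ker_comp, Scheme.IdealSheafData.le_map_iff_comap_le,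
            Scheme.IdealSheafData.ker_subschemeι]
        exact nonempty_pb_of_comp _ _ (nonempty_pb_factor _ (IsClosedImmersion.lift_fac _ _ hle) ih)
  -- the thickenings of the whole fibre
  refine ThickTrivLib.trivial_of_thickenings X.hom hM fun N => ?_
  let ι := PicAlgzLib.incl (maximalIdeal R) X.hom N
  let B := (Finset.univ.sup fun i => Models.mult R X (Γ i)) * (N + 1)
  have hle : I₀ ^ (B + 1) ≤ ι.ker := by
    haveI : IsClosedImmersion (CohB1.specQuot (maximalIdeal R) N) :=
      IsClosedImmersion.spec_of_surjective _ Ideal.Quotient.mk_surjective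
    have key : ∀ N : ℕ, (Curv2.idealSheaf R (maximalIdeal R ^ (N + 1))).comap X.hom =
        (Curv2.idealSheaf R (maximalIdeal R)).comap X.hom ^ (N + 1) := fun N => by
      induction N with
      | zero => rw [pow_one, pow_one]
      | succ N ih => rw [pow_succ (maximalIdeal R), idealSheaf_mul, HilbPts.SC.comap_mul, ih, ← pow_succ]
    have h1 : ι.ker = (Models.specialFibreIdeal R X) ^ (N + 1) := by
      show (pullback.fst X.hom (CohB1.specQuot (maximalIdeal R) N)).ker = _
      rw [← comap_ker, CohB1.specQuot, ker_specMap, Ideal.mk_ker, Models.specialFibreIdeal]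
      exact key N
    rw [h1, VertIntLib.specialFibreIdeal_eq hreg hΓ, hI₀, ← J_one_eq hreg hΓ, J, ← Finset.prod_pow, ← Finset.prod_pow]
    refine Finset.prod_le_prod' fun i _ => ?_
    rw [← pow_mul, ← pow_mul]
    refine pow_le_pow_right_of_le_one' le_top ?_
    simp only [Pi.one_apply, one_mul]
    calc Models.mult R X (Γ i) * (N + 1) ≤ B :=
          Nat.mul_le_mul_right _ (Finset.le_sup (f := fun i => Models.mult R X (Γ i)) (Finset.mem_univ i))
      _ ≤ B + 1 := Nat.le_succ B
  refine nonempty_pb_factor _ (IsClosedImmersion.lift_fac (I₀ ^ (B + 1)).subschemeι ι ?_) (hall B)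
  rw [Scheme.IdealSheafData.ker_subschemeι]
  exact hle

end VertChiLib
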