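import Groth.Agent.VertChiLib.Field
import Groth.Agent.VertChiLib.Formula
import Groth.Agent.VertIntLib.Kernel
import Groth.Agent.VertIntLib.PicApps

/-!
# Chains of vertical divisors whose rings of functions are fields
-/

set_option autoImplicit false
set_option backward.isDefEq.respectTransparency false
set_option linter.style.haveILetI false
set_option linter.unusedSectionVars false
set_option maxHeartbeats 800000
universe u
open AlgebraicGeometry CategoryTheory CategoryTheory.Limits TopologicalSpace IsLocalRing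

noncomputable section

namespace VertChiLib

variable {R : Type u} [CommRing R] [IsDomain R] [IsDiscreteValuationRing R]
  {X : Over (Spec (CommRingCat.of R))} [IsIntegral X.left] [Flat X.hom] [IsProper X.hom]
  (hreg : ∀ x : X.left, IsRegularLocalRing (X.left.presheaf.stalk x))
  {n : ℕ} {Γ : Fin n → ArSurf.VertComp R X} (hΓ : Models.IsComponentList R X Γ)
  {L : Fin n → X.left.Modules} (hL : ∀ i, ClSub.IsInverseOf (L i) (ClSub.idealMod (Γ i).ι.ker))
  (hconn : _root_.IsPreconnected (Models.specialFibreSet R X))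

/-- The coefficients of `(1/d) X_k`. -/
def Dv (Γ : Fin n → ArSurf.VertComp R X) (i : Fin n) : ℕ :=
  Models.mult R X (Γ i) / Models.multGcd R X Γ

omit [IsIntegral X.left] [Flat X.hom] [IsProper X.hom] in
theorem mult_eq_mul_Dv (i : Fin n) :
    Models.mult R X (Γ i) = Models.multGcd R X Γ * Dv Γ i :=
  (Nat.mul_div_cancel' (Finset.gcd_dvd (f := fun i => Models.mult R X (Γ i)) (Finset.mem_univ i))).symm

include hreg hΓ in
theorem gcd_pos (i : Fin n) : 0 < Models.multGcd R X Γ ∧ 1 ≤ Dv Γ i := by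
  have h := VertIntLib.mult_pos hreg hΓ i
  rw [mult_eq_mul_Dv (Γ := Γ) i] at h
  exact ⟨Nat.pos_of_mul_pos_right h, Nat.pos_of_mul_pos_left h⟩

include hreg hΓ hL in
/-- A proper part of a connected family meets the rest. -/
theorem exists_next_one (hconn : _root_.IsPreconnected (Models.specialFibreSet R X)) (a : Fin n → ℕ)
    (ha : a ≠ 0) (hle : ∀ i, a i ≤ 1) (hne : a ≠ 1) :
    ∃ i, a i < 1 ∧ 0 < ∑ j, (a j : ℤ) * ArSurf.inter R X (L j) (Γ i) := by
  classical
  obtain ⟨k, hk, i, hi, hd⟩ := VertIntLib.exists_meet hconn Γ (VertIntLib.cover_of_list hΓ)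
    (Finset.univ.filter fun i => a i ≠ 0)
    (by
      obtain ⟨k, hk⟩ := Function.ne_iff.1 ha
      exact ⟨k, Finset.mem_filter.2 ⟨Finset.mem_univ _, hk⟩⟩)
    (fun h => hne (funext fun i => by
      have := (Finset.mem_filter.1 (h.symm ▸ Finset.mem_univ i : i ∈ _)).2
      have := hle i
      simp only [Pi.one_apply]
      omega))
  simp only [Finset.mem_filter, Finset.mem_univ, true_and, not_not] at hk hi
  refine ⟨i, by omega, Finset.sum_pos' (fun j _ => ?_) ⟨k, Finset.mem_univ k, ?_⟩⟩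
  · rcases eq_or_ne i j with rfl | hij
    · simp [hi]
    · exact mul_nonneg (Int.natCast_nonneg _) (VertIntLib.list_offdiag hreg hΓ hL hij).1
  · have hik : i ≠ k := fun e => hk (e ▸ hi)
    obtain ⟨h1, h2⟩ := VertIntLib.list_offdiag hreg hΓ hL hik
    exact mul_pos (by omega) (lt_of_le_of_ne h1 fun h => hd (h2.1 h.symm).symm)

include hreg hΓ hL in
/-- A proper part of `(1/d) X_k` is positive on a component outside it. -/
theorem exists_next (hconn : _root_.IsPreconnected (Models.specialFibreSet R X)) (a : Fin n → ℕ)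
    (ha : a ≠ 0) (hle : ∀ i, a i ≤ Dv Γ i) (hne : a ≠ Dv Γ) :
    ∃ i, a i < Dv Γ i ∧ 0 < ∑ j, (a j : ℤ) * ArSurf.inter R X (L j) (Γ i) := by
  classical
  obtain ⟨k₀, hk₀⟩ := Function.ne_iff.1 ha
  obtain ⟨hg, -⟩ := gcd_pos hreg hΓ k₀
  have hrow : ∀ i, ∑ j, (Dv Γ j : ℤ) * ArSurf.inter R X (L j) (Γ i) = 0 := fun i => by
    have h := VertIntLib.list_row hreg hΓ hL i
    simp only [mult_eq_mul_Dv (Γ := Γ), Nat.cast_mul, mul_assoc, ← Finset.mul_sum, mul_eq_zero,
      Int.natCast_eq_zero, hg.ne', false_or] at h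
    exact h
  let b : Fin n → ℤ := fun i => (Dv Γ i : ℤ) - a i
  by_contra! hall
  have hterm : ∀ i, 0 ≤ b i * ∑ j, b j * ArSurf.inter R X (L j) (Γ i) := fun i => by
    rcases (hle i).eq_or_lt with he | hlt
    · simp [b, he]
    · refine mul_nonneg (by simp [b]; omega) ?_
      simp only [b, sub_mul, Finset.sum_sub_distrib, hrow, zero_sub, Left.nonneg_neg_iff]
      exact hall i hlt
  have hge : 0 ≤ ∑ q : Fin n × Fin n, b q.1 * b q.2 * ArSurf.inter R X (L q.2) (Γ q.1) := by
    rw [Fintype.sum_prod_type]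
    refine Finset.sum_nonneg fun i _ => ?_
    simp only [mul_assoc, ← Finset.mul_sum]
    exact hterm i
  obtain ⟨c, hc⟩ := (VertIntLib.list_kernel hreg hΓ hL hconn (VertIntLib.cover_of_list hΓ) b).1
    (le_antisymm (VertIntLib.list_quad_nonpos hreg hΓ hL b) hge)
  obtain ⟨k, hk⟩ := VertIntLib.exists_gcd_mul (fun i => Models.mult R X (Γ i)) b hc
  have hbk : ∀ i, b i = k * Dv Γ i := fun i => by
    have h := hk i
    simp only [mult_eq_mul_Dv (Γ := Γ)] at h
    refine mul_left_cancel₀ (show (Models.multGcd R X Γ : ℤ) ≠ 0 by exact_mod_cast hg.ne') ?_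
    rw [show (Finset.univ.gcd fun i => Models.multGcd R X Γ * Dv Γ i) = Models.multGcd R X Γ by
      simp only [← mult_eq_mul_Dv (Γ := Γ)]; rfl] at h
    rw [h]; push_cast; ring
  have hD := (gcd_pos hreg hΓ k₀).2
  have h1 := hbk k₀
  have h2 := hle k₀
  simp only [b] at h1
  rcases lt_trichotomy k 0 with hk' | rfl | hk'
  · nlinarith
  · exact hne (funext fun i => by have := hbk i; simp only [b, zero_mul] at this; omega)
  · rcases Nat.eq_zero_or_pos (a k₀) with h0 | h0
    · exact hk₀ h0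
    · nlinarith

include hreg hΓ hL in
theorem isField_add (a : Fin n → ℕ) (i : Fin n) (hK : IsField Γ((J Γ a).subscheme, ⊤))
    (hpos : 0 < ∑ j, (a j : ℤ) * ArSurf.inter R X (L j) (Γ i)) :
    IsField Γ((J Γ (a + Pi.single i 1)).subscheme, ⊤) := by
  classical
  haveI : IsLocallyNoetherian X.left := LocallyOfFiniteType.isLocallyNoetherian X.hom
  have hC := isEffCartier_list hreg hΓ
  have e : J Γ (a + Pi.single i 1) = J Γ a * (Γ i).ι.ker := by rw [J_add, J_single]
  rw [e]
  refine isField_step (Γ i) (isEffCartier_J hC a) (hC i) ?_ hK (e ▸ fin1_J hC _)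
  rw [dId_J (Γ i) hC a]
  have h : ∀ j, (a j : ℤ) * VertIntLib.dId (Γ i) (Γ j).ι.ker = -((a j : ℤ) * ArSurf.inter R X (L j) (Γ i)) :=
    fun j => by rw [VertIntLib.inter_eq_neg (Γ i) (hC j) (hL j)]; ring
  rw [Finset.sum_congr rfl fun j _ => h j, Finset.sum_neg_distrib]
  linarith

omit [IsIntegral X.left] [Flat X.hom] [IsProper X.hom] in
theorem sum_sub_add_single {a b : Fin n → ℕ} {i : Fin n} (h : a i < b i) :
    ∑ j, (b j - (a + Pi.single i 1 : Fin n → ℕ) j) < ∑ j, (b j - a j) :=
  Finset.sum_lt_sum (fun j _ => Nat.sub_le_sub_left (by simp) _) ⟨i, Finset.mem_univ i, by simp; omega⟩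

omit [IsIntegral X.left] [Flat X.hom] [IsProper X.hom] in
theorem add_single_le {a b : Fin n → ℕ} (hab : ∀ j, a j ≤ b j) {i : Fin n} (h : a i < b i) (j : Fin n) :
    (a + Pi.single i 1 : Fin n → ℕ) j ≤ b j := by
  rcases eq_or_ne j i with rfl | hj
  · simpa using h
  · simpa [hj] using hab j

include hreg hΓ hL in
/-- The reduced closed fibre. -/
theorem isField_one (hconn : _root_.IsPreconnected (Models.specialFibreSet R X)) (i₀ : Fin n) :
    IsField Γ((J Γ (1 : Fin n → ℕ)).subscheme, ⊤) := by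
  classical
  haveI : IsLocallyNoetherian X.left := LocallyOfFiniteType.isLocallyNoetherian X.hom
  have hC := isEffCartier_list hreg hΓ
  suffices H : ∀ m : ℕ, ∀ a : Fin n → ℕ, ∑ j, (1 - a j) = m → (∀ j, a j ≤ 1) → a ≠ 0 →
      IsField Γ((J Γ a).subscheme, ⊤) → IsField Γ((J Γ (1 : Fin n → ℕ)).subscheme, ⊤) by
    refine H _ (Pi.single i₀ 1) rfl (fun j => ?_) (fun h => by simpa using congrFun h i₀) ?_
    · rcases eq_or_ne j i₀ with rfl | hj <;> simp [*]
    · have h := fin1_J hC (Pi.single i₀ 1)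
      rw [J_single] at h ⊢
      exact isField_curve (Γ i₀) h
  intro m
  induction m using Nat.strong_induction_on with
  | _ m ih =>
    intro a hm hle ha hK
    by_cases h1 : a = 1
    · exact h1 ▸ hK
    obtain ⟨i, hi, hpos⟩ := exists_next_one hreg hΓ hL hconn a ha hle h1
    refine ih _ (hm ▸ sum_sub_add_single (b := 1) hi) _ rfl (add_single_le (b := 1) hle hi) ?_
      (isField_add hreg hΓ hL a i hK hpos)
    exact fun h => by simpa using congrFun h i

include hreg hΓ hL in
/-- A chain from `a` to `(1/d) X_k`. -/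
theorem exists_chain (hconn : _root_.IsPreconnected (Models.specialFibreSet R X)) :
    ∀ (m : ℕ) (a : Fin n → ℕ), ∑ j, (Dv Γ j - a j) = m → (∀ j, a j ≤ Dv Γ j) → a ≠ 0 →
      IsField Γ((J Γ a).subscheme, ⊤) →
      ∃ (s : ℕ) (c : Fin (s + 1) → Fin n → ℕ), c 0 = a ∧ c (Fin.last s) = Dv Γ ∧
        (∀ j : Fin s, ∃ i, c j.succ = c j.castSucc + Pi.single i 1) ∧
        ∀ j, IsField Γ((J Γ (c j)).subscheme, ⊤) := by
  classical
  intro m
  induction m using Nat.strong_induction_on with
  | _ m ih =>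
    intro a hm hle ha hK
    by_cases h1 : a = Dv Γ
    · exact ⟨0, fun _ => a, rfl, h1, fun j => j.elim0, fun _ => hK⟩
    obtain ⟨i, hi, hpos⟩ := exists_next hreg hΓ hL hconn a ha hle h1
    obtain ⟨s, c, hc0, hcl, hcs, hcf⟩ := ih _ (hm ▸ sum_sub_add_single hi) _ rfl (add_single_le hle hi)
      (fun h => by simpa using congrFun h i) (isField_add hreg hΓ hL a i hK hpos)
    refine ⟨s + 1, Fin.cons a c, rfl, ?_, fun j => ?_, fun j => ?_⟩
    · rw [← Fin.succ_last, Fin.cons_succ]; exact hcl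
    · refine Fin.cases ⟨i, ?_⟩ (fun j => ?_) j
      · rw [Fin.cons_succ, Fin.castSucc_zero, Fin.cons_zero, hc0]
      · obtain ⟨i', hi'⟩ := hcs j
        refine ⟨i', ?_⟩
        rw [Fin.cons_succ, ← Fin.succ_castSucc, Fin.cons_succ, hi']
    · refine Fin.cases ?_ (fun j => ?_) j
      · rw [Fin.cons_zero]; exact hK
      · rw [Fin.cons_succ]; exact hcf j

include hreg hΓ in
/-- The chain from the reduced fibre to `(1/d) X_k`. -/
theorem exists_chain' (hconn : _root_.IsPreconnected (Models.specialFibreSet R X)) (i₀ : Fin n) :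
    ∃ (s : ℕ) (c : Fin (s + 1) → Fin n → ℕ), c 0 = 1 ∧ c (Fin.last s) = Dv Γ ∧
      (∀ j : Fin s, ∃ i, c j.succ = c j.castSucc + Pi.single i 1) ∧
      ∀ j, IsField Γ((J Γ (c j)).subscheme, ⊤) := by
  have hC := isEffCartier_list hreg hΓ
  choose L hL using fun k => VertIntLib.exists_inverse (IntMultLib.isInvertible_idealMod _ (hC k))
  exact exists_chain hreg hΓ hL hconn _ 1 rfl (fun j => (gcd_pos hreg hΓ j).2)
    (fun h => by simpa using congrFun h i₀) (isField_one hreg hΓ hL hconn i₀)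

include hreg hΓ in
/-- Functions on `(1/d) X_k` form a field. -/
theorem isField_Dv (hconn : _root_.IsPreconnected (Models.specialFibreSet R X)) (i₀ : Fin n) :
    IsField Γ((J Γ (Dv Γ)).subscheme, ⊤) := by
  obtain ⟨s, c, -, hl, -, hf⟩ := exists_chain' hreg hΓ hconn i₀
  exact hl ▸ hf _

end VertChiLib

namespace VertChiLib

/-- The closed fibre of a nonempty proper scheme is nonempty. -/
theorem exists_index {R : Type u} [CommRing R] [IsDomain R] [IsDiscreteValuationRing R]
    {X : Over (Spec (CommRingCat.of R))} [IsIntegral X.left] [IsProper X.hom]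
    {n : ℕ} {Γ : Fin n → ArSurf.VertComp R X} (hΓ : Models.IsComponentList R X Γ) : Nonempty (Fin n) := by
  have hx : closedPoint R ∈ Set.range X.hom.base :=
    (IsLocalRing.specializes_closedPoint (X.hom.base (genericPoint X.left))).mem_closed
      X.hom.isClosedMap.isClosed_range ⟨genericPoint X.left, rfl⟩
  obtain ⟨x, hx⟩ := hx
  obtain ⟨i, -⟩ := VertIntLib.cover_of_list hΓ x hx
  exact ⟨i⟩

end VertChiLib
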