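import Groth.Agent.VertChiLib.Chi
import Groth.Agent.VertChiLib.Field
import Groth.Agent.VertIntLib.Prod
import Groth.Agent.CommAlgDim.Regular

/-!
# Rational points of a regular model
-/

set_option autoImplicit false
set_option backward.isDefEq.respectTransparency false
set_option linter.style.haveILetI false
set_option linter.unusedSectionVars false
set_option maxHeartbeats 800000
universe u
open AlgebraicGeometry CategoryTheory CategoryTheory.Limits TopologicalSpace IsLocalRing

noncomputable section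

namespace VertChiLib

variable {R : Type u} [CommRing R] [IsDomain R] [IsDiscreteValuationRing R]
  {X : Over (Spec (CommRingCat.of R))} [IsProper X.hom]

/-- A `K`-point extends to an `R`-point. -/
theorem exists_section {C : Scheme.{u}} {f : C ⟶ Spec (CommRingCat.of (FractionRing R))} {g : C ⟶ X.left}
    (hg : IsPullback g f X.hom (Spec.map (CommRingCat.ofHom (algebraMap R (FractionRing R)))))
    (s : Spec (CommRingCat.of (FractionRing R)) ⟶ C) (hs : s ≫ f = 𝟙 _) :
    ∃ σ : Spec (CommRingCat.of R) ⟶ X.left, σ ≫ X.hom = 𝟙 _ := by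
  have hu : UniversallyClosed X.hom := inferInstance
  rw [UniversallyClosed.eq_valuativeCriterion] at hu
  have hsq : CommSq (s ≫ g) (Spec.map (CommRingCat.ofHom (algebraMap R (FractionRing R)))) X.hom
      (𝟙 (Spec (CommRingCat.of R))) := ⟨by rw [Category.assoc, hg.w, reassoc_of% hs, Category.comp_id]⟩
  obtain ⟨l⟩ := (hu.1 ⟨R, FractionRing R, s ≫ g, 𝟙 _, hsq⟩).exists_lift
  exact ⟨l.l, l.fac_right⟩

/-- At the reduction of an `R`-point the closed fibre is regular and `k`-rational. -/
theorem exists_point (hreg : ∀ x : X.left, IsRegularLocalRing (X.left.presheaf.stalk x))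
    (σ : Spec (CommRingCat.of R) ⟶ X.left) (hσ : σ ≫ X.hom = 𝟙 _) {ϖ : R} (hϖ : maximalIdeal R = Ideal.span {ϖ})
    (hϖi : Irreducible ϖ) :
    ∃ x : X.left, X.hom x = closedPoint R ∧ IsClosed ({x} : Set X.left) ∧
      Function.Surjective ((X.left.residue x).hom.comp (Models.stalkHom R X x)) ∧
      Models.stalkHom R X x ϖ ∈ maximalIdeal _ ∧ Models.stalkHom R X x ϖ ∉ maximalIdeal _ ^ 2 ∧
      IsRegularLocalRing (X.left.presheaf.stalk x ⧸ Ideal.map (Models.stalkHom R X x) (maximalIdeal R)) := by
  let x := σ (closedPoint R)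
  let φ : X.left.presheaf.stalk x →+* R := (Scheme.stalkClosedPointTo σ).hom
  haveI : IsLocalHom φ := inferInstanceAs (IsLocalHom (Scheme.stalkClosedPointTo σ).hom)
  have hφ : ∀ r, φ (Models.stalkHom R X x r) = r := fun r => by
    have key : X.left.presheaf.germ ⊤ x trivial ≫ Scheme.stalkClosedPointTo σ =
        σ.appTop ≫ (Scheme.ΓSpecIso (CommRingCat.of R)).hom := by
      rw [Scheme.germ_stalkClosedPointTo]
      simp
    have h2 : σ.appTop.hom (X.hom.appTop.hom ((Scheme.ΓSpecIso (CommRingCat.of R)).inv.hom r)) =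
        (Scheme.ΓSpecIso (CommRingCat.of R)).inv.hom r := by
      rw [← CommRingCat.comp_apply, ← Scheme.Hom.comp_appTop, hσ]
      rfl
    refine (congr($key (Coh.toGlobal X.hom r))).trans ?_
    show (Scheme.ΓSpecIso (CommRingCat.of R)).hom.hom (σ.appTop.hom (X.hom.appTop.hom _)) = r
    rw [h2, Iso.inv_hom_id_apply]
  have hmem : Models.stalkHom R X x ϖ ∈ maximalIdeal _ := fun hu => hϖi.not_isUnit (hφ ϖ ▸ hu.map φ)
  have hmem2 : Models.stalkHom R X x ϖ ∉ maximalIdeal _ ^ 2 := fun h => by
    have h1 : (maximalIdeal (X.left.presheaf.stalk x)).map φ ≤ maximalIdeal R :=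
      ((IsLocalRing.local_hom_TFAE φ).out 0 2).1 (show IsLocalHom φ by infer_instance)
    have h2 := Ideal.mem_map_of_mem φ h
    rw [Ideal.map_pow, hφ] at h2
    have h3 : ϖ ∈ maximalIdeal R ^ 2 := Ideal.pow_right_mono h1 2 h2
    rw [hϖ, Ideal.span_singleton_pow, Ideal.mem_span_singleton] at h3
    obtain ⟨c, hc⟩ := h3
    exact hϖi.not_isUnit (isUnit_of_dvd_one ⟨c, mul_left_cancel₀ hϖi.ne_zero (by rw [mul_one, ← mul_assoc, ← sq]; exact hc)⟩)
  refine ⟨x, ?_, ?_, fun c => ?_, hmem, hmem2, ?_⟩
  · show (σ ≫ X.hom) (closedPoint R) = _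
    rw [hσ]
    rfl
  · haveI : IsClosedImmersion (σ ≫ X.hom) := by rw [hσ]; infer_instance
    haveI : IsClosedImmersion σ := IsClosedImmersion.of_comp σ X.hom
    have := σ.isClosedEmbedding.isClosedMap _ (IsLocalRing.isClosed_singleton_closedPoint R)
    rwa [Set.image_singleton] at this
  · obtain ⟨b, rfl⟩ := X.left.residue_surjective x c
    refine ⟨φ b, (sub_eq_zero.1 ?_).symm⟩
    show (X.left.residue x).hom b - (X.left.residue x).hom (Models.stalkHom R X x (φ b)) = 0
    rw [← map_sub]
    refine (IsLocalRing.residue_eq_zero_iff _).2 fun hu => ?_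
    have := hu.map φ
    rw [map_sub, hφ, sub_self] at this
    exact not_isUnit_zero this
  · haveI := hreg x
    rw [hϖ, Ideal.map_span, Set.image_singleton]
    exact CommAlgDim.isRegularLocalRing_quotient_singleton hmem hmem2

/-- On a closed subscheme through a rational point a field of functions consists of constants. -/
theorem gρ_surjective {Z : Scheme.{u}} (a : Z ⟶ X.left) [IsClosedImmersion a] (hK : IsField Γ(Z, ⊤)) (z : Z)
    (hx : Function.Surjective ((X.left.residue (a z)).hom.comp (Models.stalkHom R X (a z)))) :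
    Function.Surjective (VertIntLib.gρ (a ≫ X.hom)) := by
  intro s
  letI := hK.toField
  obtain ⟨b, hb⟩ := a.stalkMap_surjective z (Z.presheaf.germ ⊤ z trivial s)
  obtain ⟨r, hr⟩ := hx ((X.left.residue (a z)).hom b)
  refine ⟨r, (Z.Γevaluation z).hom.injective ?_⟩
  have e1 : Z.presheaf.germ ⊤ z trivial (VertIntLib.gρ (a ≫ X.hom) r) =
      (a.stalkMap z).hom (Models.stalkHom R X (a z) r) := by
    rw [VertIntLib.gρ_comp]
    exact (Scheme.Hom.germ_stalkMap_apply a ⊤ z trivial _).symm
  show (Z.residue z).hom (Z.presheaf.germ ⊤ z trivial _) = (Z.residue z).hom (Z.presheaf.germ ⊤ z trivial s)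
  rw [e1, ← hb]
  have h := fun t => congr($(Scheme.residue_residueFieldMap a z) t)
  exact (h _).symm.trans ((congrArg (a.residueFieldMap z).hom hr).trans (h b))

/-- Such a closed subscheme has `h⁰ = 1`. -/
theorem len_eq_one {I : X.left.IdealSheafData} (hK : IsField Γ(I.subscheme, ⊤)) (z : I.subscheme)
    (hx : Function.Surjective ((X.left.residue (I.subschemeι z)).hom.comp (Models.stalkHom R X (I.subschemeι z)))) :
    len R (ClSub.quotMod I) 0 = 1 := by
  have hs := gρ_surjective I.subschemeι hK z hx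
  letI := hK.toField
  letI := (VertIntLib.gρ (I.subschemeι ≫ X.hom)).toAlgebra
  have em : (Algebra.toModule : Module R Γ(I.subscheme, ⊤)) = VertIntLib.gmod (I.subschemeι ≫ X.hom) :=
    Module.ext (funext fun r => funext fun x => rfl)
  have h : VertIntLib.glen (I.subschemeι ≫ X.hom) = 1 := by
    rw [VertIntLib.glen, ← em,
      Module.length_eq_of_surjective (R := Γ(I.subscheme, ⊤)) (S := R) (M := Γ(I.subscheme, ⊤)) hs,
      Module.length_eq_finrank, Module.finrank_self, Nat.cast_one]
  rw [len, VertIntLib.length_hhQuot (A := R) I]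
  exact (congrArg ENat.toNat h).trans rfl

/-- A component through such a point has constants `k`. -/
theorem wdeg_eq_one [IsLocallyNoetherian X.left] (Γ₀ : ArSurf.VertComp R X)
    (hfin : Fin1 R (ClSub.quotMod Γ₀.ι.ker)) (x : X.left) (hx₀ : x ∈ Set.range Γ₀.ι.base)
    (hx : Function.Surjective ((X.left.residue x).hom.comp (Models.stalkHom R X x))) :
    Models.wdeg R X Γ₀ = 1 := by
  obtain ⟨z, hz⟩ : x ∈ Set.range Γ₀.ι.ker.subschemeι := by
    rw [Scheme.IdealSheafData.range_subschemeι, Scheme.Hom.support_ker]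
    exact subset_closure hx₀
  subst hz
  obtain ⟨q⟩ := SurfNumLib.quotMod_ker_iso Γ₀.ι
  haveI := VertIntLib.isProper_curve Γ₀
  have h := len_eq_one (isField_curve Γ₀ hfin) z hx
  rw [len, length_iso (A := R) q 0, len_push Γ₀ _ (DevissLib.isCoh_structureModule _), ENat.toNat_natCast] at h
  exact h

end VertChiLib
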