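import Groth.Agent.VertChiLib.Exc
import Groth.Agent.VertIntLib.Kernel
import Groth.Agent.FinPicLib.Topo

/-!
Every vertical curve of a model is one of the components of the closed fibre.
-/

set_option autoImplicit false

universe u

open CategoryTheory CategoryTheory.Limits AlgebraicGeometry TopologicalSpace
open Models

set_option backward.isDefEq.respectTransparency false

namespace VertChiLib

variable {R : Type u} [CommRing R] [IsDomain R] [IsDiscreteValuationRing R]
  {X : Over (Spec (CommRingCat.of R))}

/-- A vertical curve has the generic point of a component. -/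
theorem exists_index_genPt {n : ℕ} {Δ : Fin n → ArSurf.VertComp R X} (hΔ : Models.IsComponentList R X Δ)
    (Γ : ArSurf.VertComp R X) : ∃ s, Models.genPtOf R X Γ = Models.genPtOf R X (Δ s) := by
  obtain ⟨s, c, hc⟩ := VertIntLib.cover_of_list hΔ _ (VertIntLib.genPt_over Γ)
  refine ⟨s, ?_⟩
  by_contra hne
  have hc0 : genericPoint (Δ s).curve.left ≠ c := by
    intro h
    exact hne (by rw [← hc, ← h]; rfl)
  have hall : ∀ d : Γ.curve.left, Γ.ι d = Models.genPtOf R X Γ := by
    intro d
    have hsp : Models.genPtOf R X Γ ⤳ Γ.ι d :=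
      ((genericPoint_spec Γ.curve.left).specializes trivial).map Γ.ι.continuous
    obtain ⟨c', hc'⟩ := hsp.mem_closed (Δ s).ι.isClosedEmbedding.isClosed_range ⟨c, hc⟩
    rw [← hc, ← hc', (Δ s).ι.isEmbedding.isInducing.specializes_iff] at hsp
    by_contra hd
    exact FinPicLib.not_three (Δ s).dim_eq.le ((genericPoint_spec _).specializes trivial) hsp hc0
      (fun h => hd (by rw [← hc', ← h, hc]))
  haveI : Subsingleton ↥Γ.curve.left :=
    ⟨fun a b => Γ.ι.isEmbedding.injective ((hall a).trans (hall b).symm)⟩
  have := topologicalKrullDim_zero_of_discreteTopology (X := ↥Γ.curve.left)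
  rw [Γ.dim_eq] at this
  exact (not_le.2 zero_lt_one) this

end VertChiLib
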