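import Mathlib

/-!
# Separable elements over a residue field have simple-root equations
-/

set_option autoImplicit false
universe u
open IsLocalRing Polynomial

namespace VertChiLib

/-- An element of a finite `R`-algebra field over a perfect residue field is a simple root over `R`. -/
theorem exists_simple_root {R : Type u} [CommRing R] [IsDomain R] [IsDiscreteValuationRing R]
    [PerfectField (ResidueField R)] {K : Type u} [CommRing K] (hK : IsField K) (φ : R →+* K) (hfin : φ.Finite)
    (hϖ : ∀ r ∈ maximalIdeal R, φ r = 0) (a : K) :
    ∃ P : R[X], P.eval₂ φ a = 0 ∧ IsUnit (P.derivative.eval₂ φ a) := by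
  letI := hK.toField
  let ψ : ResidueField R →+* K := Ideal.Quotient.lift (maximalIdeal R) φ hϖ
  have hψ : ψ.comp (residue R) = φ := RingHom.ext fun r => rfl
  letI := φ.toAlgebra
  letI := ψ.toAlgebra
  haveI : IsScalarTower R (ResidueField R) K := IsScalarTower.of_algebraMap_eq fun r => rfl
  haveI : Module.Finite R K := hfin
  haveI : Module.Finite (ResidueField R) K := Module.Finite.of_restrictScalars_finite R _ _
  haveI : Algebra.IsAlgebraic (ResidueField R) K := Algebra.IsAlgebraic.of_finite _ _
  have hsep : IsSeparable (ResidueField R) a := Algebra.IsSeparable.isSeparable (ResidueField R) a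
  have hmon := minpoly.monic (Algebra.IsIntegral.isIntegral (R := ResidueField R) a)
  obtain ⟨P, hP, -, -⟩ := lifts_and_degree_eq_and_monic
    ((lifts_iff_coeff_lifts _).2 fun n => residue_surjective ((minpoly (ResidueField R) a).coeff n)) hmon
  have h : ∀ Q : R[X], Q.eval₂ φ a = aeval a (Q.map (residue R)) := fun Q => by
    rw [aeval_def, eval₂_map]
    rfl
  refine ⟨P, by rw [h, hP, minpoly.aeval], ?_⟩
  rw [h, ← derivative_map, hP]
  exact isUnit_iff_ne_zero.2 (hsep.aeval_derivative_ne_zero (minpoly.aeval _ _))

end VertChiLib
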