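import Groth.Agent.VertChiLib.Fibre
import Mathlib

/-!
# Functions on a scheme with coprime geometric multiplicities
-/

set_option autoImplicit false
set_option backward.isDefEq.respectTransparency false
universe u

open AlgebraicGeometry CategoryTheory CategoryTheory.Limits TopologicalSpace IsLocalRing
open scoped TensorProduct

noncomputable section

namespace VertChiLib

/-- Flat morphisms multiply lengths. -/
theorem length_stalk_flat {P Q : Scheme.{u}} (g : P ⟶ Q) [Flat g] (x : P) :
    ∃ c, Module.length (P.presheaf.stalk x) (P.presheaf.stalk x) =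
      Module.length (Q.presheaf.stalk (g x)) (Q.presheaf.stalk (g x)) * c := by
  letI : Algebra (Q.presheaf.stalk (g x)) (P.presheaf.stalk x) := (g.stalkMap x).hom.toAlgebra
  haveI : Module.Flat (Q.presheaf.stalk (g x)) (P.presheaf.stalk x) := Flat.stalkMap g x
  haveI : IsLocalHom (algebraMap (Q.presheaf.stalk (g x)) (P.presheaf.stalk x)) :=
    inferInstanceAs (IsLocalHom (g.stalkMap x).hom)
  have h := IsLocalRing.length_baseChange (Q.presheaf.stalk (g x)) (P.presheaf.stalk x) (Q.presheaf.stalk (g x))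
  rw [(Algebra.TensorProduct.rid (Q.presheaf.stalk (g x)) (P.presheaf.stalk x)
    (P.presheaf.stalk x)).toLinearEquiv.length_eq] at h
  exact ⟨_, h⟩

theorem toNat_dvd_of_flat {P Q : Scheme.{u}} (g : P ⟶ Q) [Flat g] (x : P) :
    (Module.length (Q.presheaf.stalk (g x)) (Q.presheaf.stalk (g x))).toNat ∣
      (Module.length (P.presheaf.stalk x) (P.presheaf.stalk x)).toNat := by
  obtain ⟨c, hc⟩ := length_stalk_flat g x
  exact ⟨c.toNat, by rw [hc, ENat.toNat_mul]⟩

theorem eq_toSpecΓ {P : Scheme.{u}} {k : Type u} [CommRing k] (q : P ⟶ Spec (CommRingCat.of k)) :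
    P.toSpecΓ ≫ Spec.map (CommRingCat.ofHom (VertIntLib.gρ q)) = q := by
  refine ext_of_isAffine ?_
  ext x
  have h1 : (Scheme.toSpecΓ P).appTop = (Scheme.ΓSpecIso Γ(P, ⊤)).hom := Scheme.toSpecΓ_appTop P
  rw [Scheme.Hom.comp_appTop, h1]
  have h2 := Scheme.ΓSpecIso_naturality (CommRingCat.ofHom (VertIntLib.gρ q))
  erw [h2]
  show q.appTop.hom ((Scheme.ΓSpecIso (CommRingCat.of k)).inv.hom ((Scheme.ΓSpecIso (CommRingCat.of k)).hom.hom x)) = _
  rw [CategoryTheory.Iso.hom_inv_id_apply]

/-- If the global functions form a finite field extension `κ'` of `k`, the base change to an algebraic closure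
is connected and its multiplicities are coprime, then `κ' = k`. -/
theorem bijective_of_geom_gcd {k : Type u} [Field k] {P : Scheme.{u}} (q : P ⟶ Spec (CommRingCat.of k))
    [Nonempty P] (hK : IsField Γ(P, ⊤)) (hfin : (VertIntLib.gρ q).Finite) {K : Type u} [Field K] [IsAlgClosed K]
    [Algebra k K] {Pb : Scheme.{u}} [ConnectedSpace Pb] {π : Pb ⟶ P} {qb : Pb ⟶ Spec (CommRingCat.of K)}
    (hPb : IsPullback π qb q (Spec.map (CommRingCat.ofHom (algebraMap k K))))
    (hd : ∀ ℓ : ℕ, ℓ.Prime → ∃ x : Pb, ¬ ℓ ∣ (Module.length (Pb.presheaf.stalk x) (Pb.presheaf.stalk x)).toNat) :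
    Function.Bijective (VertIntLib.gρ q) := by
  letI := hK.toField
  letI : Algebra k Γ(P, ⊤) := (VertIntLib.gρ q).toAlgebra
  haveI : Module.Finite k Γ(P, ⊤) := hfin
  let t : Spec (CommRingCat.of Γ(P, ⊤)) ⟶ Spec (CommRingCat.of k) :=
    Spec.map (CommRingCat.ofHom (algebraMap k Γ(P, ⊤)))
  let sK : Spec (CommRingCat.of K) ⟶ Spec (CommRingCat.of k) := Spec.map (CommRingCat.ofHom (algebraMap k K))
  let σ : P ⟶ Spec (CommRingCat.of Γ(P, ⊤)) := P.toSpecΓ
  have hσt : σ ≫ t = q := eq_toSpecΓ q
  haveI : Flat σ := inferInstance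
  haveI : Surjective σ := ⟨fun y => ⟨Classical.arbitrary P, Subsingleton.elim (α := PrimeSpectrum Γ(P, ⊤)) _ _⟩⟩
  let u' : pullback sK t ⟶ Spec (CommRingCat.of Γ(P, ⊤)) := pullback.snd sK t
  let A := K ⊗[k] Γ(P, ⊤)
  let eA : pullback sK t ≅ Spec (CommRingCat.of A) := pullbackSpecIso k K Γ(P, ⊤)
  -- the base change maps flatly onto `Spec A`
  have h1 : IsPullback π qb (σ ≫ t) sK := by rw [hσt]; exact hPb
  let e : Pb ≅ pullback u' σ :=
    h1.isoPullback ≪≫ pullbackSymmetry _ _ ≪≫ (pullbackLeftPullbackSndIso sK t σ).symm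
  let τ : Pb ⟶ Spec (CommRingCat.of A) := e.hom ≫ pullback.fst u' σ ≫ eA.hom
  haveI : Flat τ := inferInstance
  haveI : Surjective τ := inferInstance
  haveI : Module.Finite K A := inferInstance
  haveI : IsArtinianRing A := isArtinian_of_tower K inferInstance
  haveI hc : ConnectedSpace (PrimeSpectrum A) := τ.surjective.connectedSpace τ.continuous
  haveI : Subsingleton (PrimeSpectrum A) := PreconnectedSpace.trivial_of_discrete
  have hmax : ∃! I : Ideal A, I.IsMaximal := by
    obtain ⟨p⟩ := hc.toNonempty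
    exact ⟨p.asIdeal, IsArtinianRing.isMaximal_of_isPrime p.asIdeal, fun I hI =>
      congrArg PrimeSpectrum.asIdeal (Subsingleton.elim (⟨I, hI.isPrime⟩ : PrimeSpectrum A) p)⟩
  haveI : IsLocalRing A := IsLocalRing.of_unique_max_ideal hmax
  have hlen : ∀ y : Spec (CommRingCat.of A),
      Module.length ((Spec (CommRingCat.of A)).presheaf.stalk y) ((Spec (CommRingCat.of A)).presheaf.stalk y) =
        Module.length A A := fun y => by
    let St := (Spec (CommRingCat.of A)).presheaf.stalk y
    letI : Algebra A St := StructureSheaf.stalkAlgebra A y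
    haveI : IsLocalization.AtPrime St y.asIdeal := StructureSheaf.IsLocalization.to_stalk A y
    have hu : y.asIdeal.primeCompl ≤ IsUnit.submonoid A := fun a ha => by
      by_contra hna
      obtain ⟨I, hI, haI⟩ := exists_max_ideal_of_mem_nonunits hna
      have e : y.asIdeal = I :=
        congrArg PrimeSpectrum.asIdeal (Subsingleton.elim (α := PrimeSpectrum A) y ⟨I, hI.isPrime⟩)
      exact ha (show a ∈ y.asIdeal by rw [e]; exact haI)
    let eS : A ≃ₐ[A] St := IsLocalization.atUnits A y.asIdeal.primeCompl hu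
    rw [← Module.length_eq_of_surjective (R := St) (S := A) (M := St) eS.surjective]
    exact eS.toLinearEquiv.length_eq.symm
  have hlen1 : Module.length A A = 1 := by
    have hN : (Module.length A A).toNat = 1 := by
      by_contra hne
      obtain ⟨ℓ, hℓ, hdvd⟩ := Nat.exists_prime_and_dvd hne
      obtain ⟨x, hx⟩ := hd ℓ hℓ
      have h := toNat_dvd_of_flat τ x
      rw [hlen] at h
      exact hx (hdvd.trans h)
    exact (ENat.toNat_eq_iff one_ne_zero).1 hN
  haveI : IsSimpleModule A A := Module.length_eq_one_iff.1 hlen1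
  haveI : Nontrivial A := IsSimpleModule.nontrivial A A
  have hAf : IsField A := ⟨⟨0, 1, zero_ne_one⟩, mul_comm, fun {a} ha => by
    obtain ⟨b, hb⟩ := IsSimpleModule.toSpanSingleton_surjective A ha 1
    exact ⟨b, (mul_comm _ _).trans hb⟩⟩
  letI := hAf.toField
  have h2 : Function.Bijective (algebraMap K A) := IsAlgClosed.algebraMap_bijective_of_isIntegral (k := K) (K := A)
  have h3 : Module.finrank K A = 1 := by
    rw [← (LinearEquiv.ofBijective (Algebra.linearMap K A) h2).finrank_eq, Module.finrank_self]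
  rw [Module.finrank_baseChange] at h3
  have hinj : Function.Injective (algebraMap k Γ(P, ⊤)) := (algebraMap k Γ(P, ⊤)).injective
  exact ⟨hinj, (LinearMap.injective_iff_surjective_of_finrank_eq_finrank (f := Algebra.linearMap k Γ(P, ⊤))
    (by rw [Module.finrank_self, h3])).1 hinj⟩

end VertChiLib
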