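import Groth.Agent.VertIntLib.Degree
import Groth.Agent.HilbArtLib.Main
import Groth.Agent.CurvLib.SupportVanish

/-!
# Euler characteristics in lengths over a base ring
-/

set_option autoImplicit false
set_option backward.isDefEq.respectTransparency false
set_option linter.style.haveILetI false
set_option linter.unusedSectionVars false
set_option maxHeartbeats 800000
universe u
open AlgebraicGeometry CategoryTheory CategoryTheory.Limits TopologicalSpace Opposite

noncomputable section

namespace VertChiLib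

variable (A : Type u) [CommRing A] {X : Scheme.{u}} [X.Over (Spec (CommRingCat.of A))]

variable {A} in
theorem length_iso {F G : X.Modules} (e : F ≅ G) (j : ℕ) :
    Module.length A (Coh.HH X F j) = Module.length A (Coh.HH X G j) := by
  let f := X ↘ Spec (CommRingCat.of A)
  refine (LinearEquiv.ofLinear (AtlasCoh.hLin f e.hom j) (AtlasCoh.hLin f e.inv j) ?_ ?_).length_eq <;>
  · ext x
    change Sheaf.H.map ((QCohLib.toAbF X).map _) j (Sheaf.H.map ((QCohLib.toAbF X).map _) j x) = x
    rw [← Sheaf.H.map_comp_apply, ← Functor.map_comp]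
    simp only [Iso.inv_hom_id, Iso.hom_inv_id, CategoryTheory.Functor.map_id, Sheaf.H.map_id_apply]

/-- Cohomology of finite length, concentrated in degrees `≤ 1`. -/
def Fin1 (F : X.Modules) : Prop :=
  (∀ j, Module.length A (Coh.HH X F j) ≠ ⊤) ∧ ∀ j, 2 ≤ j → Subsingleton (Coh.HH X F j)

/-- The length of `H^j`. -/
def len (F : X.Modules) (j : ℕ) : ℕ := (Module.length A (Coh.HH X F j)).toNat

/-- `χ = ℓ(H⁰) - ℓ(H¹)`. -/
def χ (F : X.Modules) : ℤ := (len A F 0 : ℤ) - (len A F 1 : ℤ)

variable {A}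

theorem χ_congr {F G : X.Modules} (e : F ≅ G) : χ A F = χ A G := by
  simp only [χ, len, length_iso (A := A) e]

theorem Fin1.congr {F G : X.Modules} (h : Fin1 A F) (e : F ≅ G) : Fin1 A G := by
  refine ⟨fun j => by rw [← length_iso (A := A) e j]; exact h.1 j, fun j hj => ?_⟩
  haveI := h.2 j hj
  rw [← Module.length_eq_zero_iff (R := A), ← length_iso (A := A) e j, Module.length_eq_zero_iff]
  infer_instance

/-- Lengths in short exact sequences of modules over a scheme. -/
theorem add {S : ShortComplex X.Modules} (hS : S.ShortExact) (h₁ : Fin1 A S.X₁) (h₃ : Fin1 A S.X₃) :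
    Fin1 A S.X₂ ∧ χ A S.X₂ = χ A S.X₁ + χ A S.X₃ := by
  let f := X ↘ Spec (CommRingCat.of A)
  let F : ∀ i, Coh.HH X S.X₁ i →ₗ[A] Coh.HH X S.X₂ i := AtlasCoh.hLin f S.f
  let G : ∀ i, Coh.HH X S.X₂ i →ₗ[A] Coh.HH X S.X₃ i := AtlasCoh.hLin f S.g
  let D : ∀ i, Coh.HH X S.X₃ i →ₗ[A] Coh.HH X S.X₁ (i + 1) := AtlasCoh.δLin hS f
  have hab := QCohLib.toAbF_shortExact hS
  have x2 : ∀ i, LinearMap.range (F i) = LinearMap.ker (G i) := fun i => by
    refine le_antisymm ?_ fun y hy => AtlasCoh.hExact₂ hab i y hy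
    rintro _ ⟨x, rfl⟩
    change Sheaf.H.map ((QCohLib.toAbF X).map S.g) i (Sheaf.H.map ((QCohLib.toAbF X).map S.f) i x) = 0
    rw [← Sheaf.H.map_comp_apply, ← Functor.map_comp, S.zero, Functor.map_zero]
    exact (congrArg (fun e => Abelian.Ext.comp x e (add_zero i)) (Abelian.Ext.mk₀_zero _ _)).trans
      (Abelian.Ext.comp_zero ..)
  have x3 : ∀ i, LinearMap.range (G i) = LinearMap.ker (D i) := fun i => by
    refine le_antisymm ?_ fun y hy => AtlasCoh.hExact₃ hab i y hy
    rintro _ ⟨x, rfl⟩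
    exact (Abelian.Ext.comp_assoc_of_second_deg_zero ..).trans
      ((congrArg (fun e => Abelian.Ext.comp x e rfl) hab.comp_extClass).trans (Abelian.Ext.comp_zero ..))
  have x1 : ∀ i, LinearMap.range (D i) = LinearMap.ker (F (i + 1)) := fun i => by
    refine le_antisymm ?_ fun y hy => AtlasCoh.hExact₁ hab i y hy
    rintro _ ⟨x, rfl⟩
    exact (Abelian.Ext.comp_assoc_of_third_deg_zero ..).trans
      ((congrArg (fun e => Abelian.Ext.comp x e (add_zero (i + 1))) hab.extClass_comp).trans
        (Abelian.Ext.comp_zero ..))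
  let rf : ℕ → ℕ∞ := fun i => Module.length A (LinearMap.range (F i))
  let rg : ℕ → ℕ∞ := fun i => Module.length A (LinearMap.range (G i))
  let rd : ℕ → ℕ∞ := fun i => Module.length A (LinearMap.range (D i))
  have rn : ∀ {M N : Type u} [AddCommGroup M] [Module A M] [AddCommGroup N] [Module A N] (φ : M →ₗ[A] N),
      Module.length A M = Module.length A (LinearMap.ker φ) + Module.length A (LinearMap.range φ) := by
    intro M N _ _ _ _ φ
    exact Module.length_eq_add_of_exact (LinearMap.ker φ).subtype φ.rangeRestrict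
      (Submodule.injective_subtype _) φ.surjective_rangeRestrict
      (by rw [LinearMap.exact_iff, LinearMap.ker_rangeRestrict, Submodule.range_subtype])
  have e2 : ∀ i, Module.length A (Coh.HH X S.X₂ i) = rf i + rg i := fun i => by
    rw [rn (G i), ← x2 i]
  have e3 : ∀ i, Module.length A (Coh.HH X S.X₃ i) = rg i + rd i := fun i => by
    rw [rn (D i), ← x3 i]
  have e1 : ∀ i, Module.length A (Coh.HH X S.X₁ (i + 1)) = rd i + rf (i + 1) := fun i => by
    rw [rn (F (i + 1)), ← x1 i]
  have e0 : Module.length A (Coh.HH X S.X₁ 0) = rf 0 :=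
    (LinearEquiv.ofInjective (F 0) (AtlasCoh.hMap_injective hab)).length_eq
  have hf : ∀ i, rf i ≠ ⊤ := fun i => by
    cases i with
    | zero => exact e0 ▸ h₁.1 0
    | succ i => exact fun h => h₁.1 (i + 1) (by rw [e1, h, add_top])
  have hg : ∀ i, rg i ≠ ⊤ := fun i h => h₃.1 i (by rw [e3, h, top_add])
  have hd : ∀ i, rd i ≠ ⊤ := fun i h => h₁.1 (i + 1) (by rw [e1, h, top_add])
  have hd1 : rd 1 = 0 := by
    haveI := h₁.2 2 le_rfl
    exact le_zero_iff.1 ((le_self_add.trans (e1 1).ge).trans (Module.length_eq_zero (R := A)).le)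
  refine ⟨⟨fun j => by rw [e2]; exact WithTop.add_ne_top.2 ⟨hf j, hg j⟩, fun j hj => ?_⟩, ?_⟩
  · haveI := h₁.2 j hj
    haveI := h₃.2 j hj
    refine ⟨fun a b => sub_eq_zero.1 ?_⟩
    obtain ⟨x, hx⟩ : (a - b) ∈ LinearMap.range (F j) := by
      rw [x2]; exact Subsingleton.elim (α := Coh.HH X S.X₃ j) _ _
    rw [← hx, Subsingleton.elim x 0, map_zero]
  · simp only [χ, len, e2, e3, e0, e1 0, show rd 1 = 0 from hd1, add_zero]
    rw [ENat.toNat_add (hf 0) (hg 0), ENat.toNat_add (hf 1) (hg 1), ENat.toNat_add (hd 0) (hf 1),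
      ENat.toNat_add (hg 0) (hd 0)]
    push_cast
    ring

/-- The zero module. -/
theorem of_isZero {F : X.Modules} (h : IsZero F) : Fin1 A F ∧ χ A F = 0 := by
  have hs : ∀ j, Subsingleton (Coh.HH X F j) := fun j => ⟨fun a b => by
    have hz : IsZero ((QCohLib.toAbF X).obj F) := (QCohLib.toAbF X).map_isZero h
    have key : ∀ x : Coh.HH X F j, x = 0 := fun x => by
      have := Sheaf.H.map_id_apply (F := (QCohLib.toAbF X).obj F) (n := j) x
      rw [hz.eq_of_src (𝟙 _) 0] at this
      exact this.symm.trans ((congrArg (fun e => Abelian.Ext.comp x e (add_zero j))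
        (Abelian.Ext.mk₀_zero _ _)).trans (Abelian.Ext.comp_zero ..))
    rw [key a, key b]⟩
  have hl : ∀ j, Module.length A (Coh.HH X F j) = 0 := fun j => by
    haveI := hs j
    exact Module.length_eq_zero
  exact ⟨⟨fun j => by simp [hl], fun j _ => hs j⟩, by simp [χ, len, hl]⟩

end VertChiLib
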