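import Mathlib

/-!
# Simple roots lift along thickenings
-/

set_option autoImplicit false
set_option linter.style.haveILetI false
set_option backward.isDefEq.respectTransparency false
universe u
open AlgebraicGeometry CategoryTheory TopologicalSpace Opposite Polynomial

noncomputable section

namespace VertChiLib

theorem nat_apply {Z W : Scheme.{u}} (i : Z ⟶ W) {U V : W.Opens} (h : V ≤ U) (x : Γ(W, U)) :
    (i.app V).hom ((W.presheaf.map (homOfLE h).op).hom x) =
      (Z.presheaf.map (homOfLE (show i ⁻¹ᵁ V ≤ i ⁻¹ᵁ U from fun _ hz => h hz)).op).hom ((i.app U).hom x) :=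
  congr($(i.naturality (homOfLE h).op) x)

theorem isNilpotent_of_app_eq_zero {Z W : Scheme.{u}} (i : Z ⟶ W) (hi : Function.Surjective i.base) {V : W.Opens}
    (hV : IsAffineOpen V) (s : Γ(W, V)) (hs : (i.app V).hom s = 0) : IsNilpotent s := by
  have h : W.basicOpen s = ⊥ := by
    refine Opens.ext (Set.eq_empty_of_forall_notMem fun w hw => ?_)
    obtain ⟨z, rfl⟩ := hi w
    have : z ∈ i ⁻¹ᵁ W.basicOpen s := hw
    rw [Scheme.preimage_basicOpen] at this
    change z ∈ Z.basicOpen ((i.app V).hom s) at this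
    rw [hs, Scheme.basicOpen_zero] at this
    exact this
  exact (Scheme.isNilpotent_iff_basicOpen_eq_bot_of_isCompact hV.isCompact s).2 h

theorem isUnit_of_app_isUnit {Z W : Scheme.{u}} (i : Z ⟶ W) (hi : Function.Surjective i.base) {V : W.Opens}
    (s : Γ(W, V)) (hs : IsUnit ((i.app V).hom s)) : IsUnit s := by
  refine RingedSpace.isUnit_of_isUnit_germ _ V s fun w hw => ?_
  obtain ⟨z, rfl⟩ := hi w
  have : z ∈ Z.basicOpen ((i.app V).hom s) := by
    rw [Scheme.basicOpen_of_isUnit _ hs]; exact hw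
  rw [← Scheme.preimage_basicOpen] at this
  exact (Scheme.mem_basicOpen _ _ _ hw).1 this

/-- A simple root on a closed subscheme with the same points lifts. -/
theorem exists_lift_root {A : Type u} [CommRing A] {Z W : Scheme.{u}} (i : Z ⟶ W) [IsClosedImmersion i]
    (hi : Function.Surjective i.base) (ρ : A →+* Γ(W, ⊤)) (P : A[X]) (a : Γ(Z, ⊤))
    (h0 : P.eval₂ (i.appTop.hom.comp ρ) a = 0) (h1 : IsUnit (P.derivative.eval₂ (i.appTop.hom.comp ρ) a)) :
    ∃ b : Γ(W, ⊤), i.appTop.hom b = a := by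
  classical
  let rW : ∀ V : W.Opens, Γ(W, ⊤) →+* Γ(W, V) := fun V => (W.presheaf.map (homOfLE (le_top : V ≤ ⊤)).op).hom
  let rZ : ∀ V : W.Opens, Γ(Z, ⊤) →+* Γ(Z, i ⁻¹ᵁ V) := fun V =>
    (Z.presheaf.map (homOfLE (le_top : i ⁻¹ᵁ V ≤ ⊤)).op).hom
  have hc : ∀ V, (i.app V).hom.comp ((rW V).comp ρ) = (rZ V).comp (i.appTop.hom.comp ρ) := fun V =>
    RingHom.ext fun r => nat_apply i (le_top : V ≤ ⊤) (ρ r)
  -- the unique lift over an affine open
  have huniq : ∀ V : W.Opens, IsAffineOpen V → ∃! b : Γ(W, V),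
      P.eval₂ ((rW V).comp ρ) b = 0 ∧ (i.app V).hom b = rZ V a := by
    intro V hV
    letI := ((rW V).comp ρ).toAlgebra
    obtain ⟨x₀, hx₀⟩ := Scheme.Hom.app_surjective i V hV (rZ V a)
    have hn : IsNilpotent (aeval x₀ P) := by
      refine isNilpotent_of_app_eq_zero i hi hV _ ?_
      rw [aeval_def, RingHom.algebraMap_toAlgebra, hom_eval₂, hc, hx₀, ← hom_eval₂, h0, map_zero]
    have hu : IsUnit (aeval x₀ (derivative P)) := by
      refine isUnit_of_app_isUnit i hi _ ?_
      rw [aeval_def, RingHom.algebraMap_toAlgebra, hom_eval₂, hc, hx₀, ← hom_eval₂]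
      exact h1.map _
    obtain ⟨b, ⟨hb1, hb2⟩, hb3⟩ := existsUnique_nilpotent_sub_and_aeval_eq_zero hn hu
    refine ⟨b, ⟨?_, ?_⟩, fun y hy => hb3 y ⟨?_, ?_⟩⟩
    · rw [aeval_def, RingHom.algebraMap_toAlgebra] at hb2; exact hb2
    · obtain ⟨m, hm⟩ := hb1
      -- `x₀ - b` is nilpotent, so its image is a nilpotent difference of two simple roots
      have hn' : IsNilpotent (rZ V a - (i.app V).hom b) := by
        rw [← hx₀, ← map_sub]; exact ⟨m, by rw [← map_pow, hm, map_zero]⟩
      letI := ((rZ V).comp (i.appTop.hom.comp ρ)).toAlgebra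
      have e1 : aeval (rZ V a) P = 0 := by
        rw [aeval_def, RingHom.algebraMap_toAlgebra, ← hom_eval₂, h0, map_zero]
      have e2 : IsUnit (aeval (rZ V a) (derivative P)) := by
        rw [aeval_def, RingHom.algebraMap_toAlgebra, ← hom_eval₂]; exact h1.map _
      have e3 : aeval ((i.app V).hom b) P = 0 := by
        rw [aeval_def, RingHom.algebraMap_toAlgebra] at hb2
        rw [aeval_def, RingHom.algebraMap_toAlgebra, ← hc, ← hom_eval₂, hb2, map_zero]
      exact (existsUnique_nilpotent_sub_and_aeval_eq_zero (x := rZ V a) (by rw [e1]; exact IsNilpotent.zero) e2).unique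
        ⟨hn', e3⟩ ⟨by rw [sub_self]; exact IsNilpotent.zero, e1⟩
    · exact isNilpotent_of_app_eq_zero i hi hV _ (by rw [map_sub, hx₀, hy.2, sub_self])
    · rw [aeval_def, RingHom.algebraMap_toAlgebra]; exact hy.1
  choose b hb hbu using fun V : W.affineOpens => huniq V.1 V.2
  have hres : ∀ (V U : W.affineOpens) (h : V.1 ≤ U.1), W.presheaf.map (homOfLE h).op (b U) = b V := by
    intro V U h
    refine hbu V _ ⟨?_, ?_⟩
    · have hr : (W.presheaf.map (homOfLE h).op).hom.comp ((rW U.1).comp ρ) = (rW V.1).comp ρ :=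
        RingHom.ext fun r => by
          simp only [RingHom.comp_apply, rW, ← CommRingCat.comp_apply, ← Functor.map_comp]; rfl
      rw [← hr, ← hom_eval₂, (hb U).1, map_zero]
    · refine (nat_apply i h (b U)).trans ?_
      rw [(hb U).2]
      simp only [rZ, ← CommRingCat.comp_apply, ← Functor.map_comp]
      rfl
  have hcov : iSup (fun V : W.affineOpens => V.1) = ⊤ := iSup_affineOpens_eq_top W
  have hcompat : TopCat.Presheaf.IsCompatible W.presheaf (fun V : W.affineOpens => V.1) b := by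
    intro U V
    refine W.sheaf.eq_of_locally_eq' (fun V' : {V' : W.affineOpens // V'.1 ≤ U.1 ⊓ V.1} => V'.1.1) (U.1 ⊓ V.1)
      (fun V' => homOfLE V'.2) (fun w hw => ?_) _ _ fun V' => ?_
    · obtain ⟨O, hO, hwO, hOle⟩ := Opens.isBasis_iff_nbhd.mp W.isBasis_affineOpens hw
      exact Opens.mem_iSup.2 ⟨⟨⟨O, hO⟩, hOle⟩, hwO⟩
    · change W.presheaf.map _ (W.presheaf.map _ (b U)) = W.presheaf.map _ (W.presheaf.map _ (b V))
      simp only [← CommRingCat.comp_apply, ← Functor.map_comp]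
      exact (hres V'.1 U (V'.2.trans inf_le_left)).trans (hres V'.1 V (V'.2.trans inf_le_right)).symm
  obtain ⟨β, hβ, -⟩ := W.sheaf.existsUnique_gluing' (fun V : W.affineOpens => V.1) ⊤ (fun V => homOfLE le_top)
    hcov.ge b hcompat
  refine ⟨β, Z.sheaf.eq_of_locally_eq' (fun V : W.affineOpens => i ⁻¹ᵁ V.1) ⊤ (fun V => homOfLE le_top)
    (fun z _ => ?_) _ _ fun V => ?_⟩
  · obtain ⟨O, hO, hzO, -⟩ := Opens.isBasis_iff_nbhd.mp W.isBasis_affineOpens (Opens.mem_top (i.base z))
    exact Opens.mem_iSup.2 ⟨⟨O, hO⟩, hzO⟩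
  · refine (nat_apply i (le_top : V.1 ≤ ⊤) β).symm.trans ?_
    rw [show W.presheaf.map (homOfLE (le_top : V.1 ≤ ⊤)).op β = b V from hβ V]
    exact (hb V).2

end VertChiLib
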